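import Groth.Agent.Lib.Azumaya.BaseChange
import Groth.Agent.Lib.CSA.Basic
import Mathlib.RingTheory.TwoSidedIdeal.Lattice
import Mathlib.RingTheory.SimpleRing.Basic

/-!
# Azumaya algebras via their fibres
-/

open scoped TensorProduct
open MulOpposite

namespace Groth.Agent.Lib.Azumaya.Criterion

universe u v w

open Groth.Agent.Lib.Azumaya.BaseChange

theorem central_simple_of_isAzumaya (k : Type u) [Field k] (A : Type v) [Ring A] [Algebra k A]
    [IsAzumaya k A] : Algebra.IsCentral k A ∧ IsSimpleRing A := by
  refine ⟨inferInstance, ?_⟩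
  have : Nontrivial A := (FaithfulSMul.algebraMap_injective k A).nontrivial
  refine IsSimpleRing.of_eq_bot_or_eq_top fun I => or_iff_not_imp_left.mpr fun hI => ?_
  obtain ⟨x, hxI, hx⟩ : ∃ x ∈ I, x ≠ 0 := by
    by_contra h
    push Not at h
    exact hI (le_bot_iff.mp fun x hx => (TwoSidedIdeal.mem_bot A).mpr (h x hx))
  have hstab : ∀ z, AlgHom.mulLeftRight k A z x ∈ I := fun z => by
    induction z using TensorProduct.induction_on with
    | zero => simp [I.zero_mem]
    | add y z hy hz => rw [map_add, LinearMap.add_apply]; exact I.add_mem hy hz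
    | tmul a b => rw [AlgHom.mulLeftRight_apply]; exact I.mul_mem_right _ _ (I.mul_mem_left _ _ hxI)
  obtain ⟨φ, hφ⟩ : ∃ φ : Module.Dual k A, φ x ≠ 0 := by
    by_contra h
    push Not at h
    exact hx ((Module.forall_dual_apply_eq_zero_iff k x).mp h)
  obtain ⟨z, hz⟩ := IsAzumaya.bij (R := k) (A := A) |>.2 ((LinearMap.toSpanSingleton k A 1).comp ((φ x)⁻¹ • φ))
  rw [← TwoSidedIdeal.one_mem_iff]
  have := hstab z
  rw [hz] at this
  simpa [LinearMap.toSpanSingleton, inv_mul_cancel₀ hφ] using this

theorem isAzumaya_iff_central_simple (k : Type u) [Field k] (A : Type v) [Ring A] [Algebra k A]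
    [FiniteDimensional k A] : IsAzumaya k A ↔ Algebra.IsCentral k A ∧ IsSimpleRing A :=
  ⟨fun _ => central_simple_of_isAzumaya k A,
    fun ⟨h1, h2⟩ => haveI := h1; haveI := h2; Groth.Agent.Lib.CSA.Basic.isAzumaya k A⟩

/-- Cancellation of a base change, for algebras that need not be commutative. -/
noncomputable def cancelBaseChange (R : Type u) [CommRing R] (S : Type w) [CommRing S] [Algebra R S]
    (T : Type*) [CommRing T] [Algebra R T] [Algebra S T] [IsScalarTower R S T]
    (A : Type v) [Ring A] [Algebra R A] : T ⊗[S] (S ⊗[R] A) ≃ₐ[T] T ⊗[R] A :=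
  AlgEquiv.symm <| AlgEquiv.ofLinearEquiv
    (TensorProduct.AlgebraTensorModule.cancelBaseChange R S T T A).symm
    (by simp [Algebra.TensorProduct.one_def]) <|
      LinearMap.map_mul_of_map_mul_tmul (fun _ _ _ _ ↦ by simp)

section Bij

variable {R : Type u} [CommRing R]

theorem surjective_of_residueField {P : Type v} {Q : Type w} [AddCommGroup P] [Module R P]
    [AddCommGroup Q] [Module R Q] [Module.Finite R Q] (f : P →ₗ[R] Q)
    (h : ∀ (m : Ideal R) [m.IsMaximal], Function.Surjective (f.lTensor m.ResidueField)) :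
    Function.Surjective f := by
  rw [← LinearMap.range_eq_top, ← Submodule.Quotient.subsingleton_iff]
  rw [← Module.support_eq_empty_iff (R := R)]
  refine Set.eq_empty_iff_forall_notMem.mpr fun p hp => ?_
  obtain ⟨m, hm, hpm⟩ := Ideal.exists_le_maximal p.asIdeal p.isPrime.ne_top
  have hm' : (⟨m, hm.isPrime⟩ : PrimeSpectrum R) ∈ Module.support R (Q ⧸ LinearMap.range f) :=
    Module.mem_support_mono hpm hp
  rw [Module.mem_support_iff_nontrivial_residueField_tensorProduct] at hm'
  refine not_subsingleton (m.ResidueField ⊗[R] (Q ⧸ LinearMap.range f)) ⟨fun a b => ?_⟩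
  have hz : ∀ y, y = (0 : m.ResidueField ⊗[R] (Q ⧸ LinearMap.range f)) := fun y => by
    obtain ⟨y, rfl⟩ := LinearMap.lTensor_surjective m.ResidueField (Submodule.mkQ_surjective _) y
    obtain ⟨z, rfl⟩ := h m y
    rw [← LinearMap.comp_apply, ← LinearMap.lTensor_comp, LinearMap.range_mkQ_comp, LinearMap.lTensor_zero,
      LinearMap.zero_apply]
  rw [hz a, hz b]

theorem bijective_of_residueField {P : Type v} {Q : Type w} [AddCommGroup P] [Module R P]
    [AddCommGroup Q] [Module R Q] [Module.Finite R P] [Module.Finite R Q] [Module.Projective R Q]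
    (f : P →ₗ[R] Q)
    (h : ∀ (m : Ideal R) [m.IsMaximal], Function.Bijective (f.lTensor m.ResidueField)) :
    Function.Bijective f := by
  have hs := surjective_of_residueField f fun m _ => (h m).2
  obtain ⟨g, hg⟩ := Module.projective_lifting_property f LinearMap.id hs
  have hg' : Function.Surjective g := surjective_of_residueField g fun m _ z => by
    refine ⟨f.lTensor m.ResidueField z, (h m).1 ?_⟩
    rw [← LinearMap.comp_apply, ← LinearMap.lTensor_comp, hg, LinearMap.lTensor_id, LinearMap.id_apply]
  refine ⟨Function.HasLeftInverse.injective ⟨g, fun x => ?_⟩, hs⟩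
  obtain ⟨y, rfl⟩ := hg' x
  rw [show f (g y) = y from LinearMap.congr_fun hg y]

end Bij

variable {R : Type u} [CommRing R] (A : Type v) [Ring A] [Algebra R A] [Module.Finite R A] [Module.Projective R A]

/-- A finite projective algebra whose closed fibres are Azumaya is Azumaya. -/
theorem isAzumaya_of_fibres (h : ∀ (m : Ideal R) [m.IsMaximal], IsAzumaya m.ResidueField (m.ResidueField ⊗[R] A)) :
    IsAzumaya R A := by
  have htr : traceIdeal R A = ⊤ := traceIdeal_eq_top_of_nontrivial R A fun m _ =>
    have := h m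
    (FaithfulSMul.algebraMap_injective m.ResidueField (m.ResidueField ⊗[R] A)).nontrivial
  have : FaithfulSMul R A := by
    have := faithfulSMul_baseChange_of_traceIdeal (S := R) (R := R) (M := A) htr
    refine ⟨fun {s t} hst => FaithfulSMul.eq_of_smul_eq_smul (α := R ⊗[R] A) fun z => ?_⟩
    apply (TensorProduct.lid R A).injective
    rw [map_smul, map_smul, hst]
  refine ⟨?_⟩
  have : Module.Finite R (Module.End R A) := Module.Finite.of_surjective _ (dualTensorHom_bijective (R := R) (M := A) (N := A)).2
  have : Module.Projective R (Module.End R A) := Module.Projective.of_equiv (dualTensorHomEquiv R A A)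
  refine bijective_of_residueField (AlgHom.mulLeftRight R A).toLinearMap fun m _ => ?_
  rw [← mulLeftRight_baseChange_bijective_iff]
  exact (h m).bij

omit [Module.Finite R A] [Module.Projective R A] in
/-- Over a field-valued point, the fibre of an Azumaya algebra is central simple. -/
theorem central_simple_baseChange (k : Type w) [Field k] [Algebra R k] [IsAzumaya R A] :
    Algebra.IsCentral k (k ⊗[R] A) ∧ IsSimpleRing (k ⊗[R] A) :=
  have := isAzumaya_baseChange k A (R := R)
  central_simple_of_isAzumaya k _

theorem isAzumaya_iff_fibres :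
    IsAzumaya R A ↔ ∀ (p : Ideal R) [p.IsPrime],
      Algebra.IsCentral p.ResidueField (p.ResidueField ⊗[R] A) ∧ IsSimpleRing (p.ResidueField ⊗[R] A) :=
  ⟨fun _ p _ => central_simple_baseChange A p.ResidueField,
    fun h => isAzumaya_of_fibres A fun m _ => (isAzumaya_iff_central_simple _ _).mpr (h m)⟩

theorem isAzumaya_iff_residueField [IsLocalRing R] :
    IsAzumaya R A ↔ Algebra.IsCentral (IsLocalRing.ResidueField R) (IsLocalRing.ResidueField R ⊗[R] A) ∧
      IsSimpleRing (IsLocalRing.ResidueField R ⊗[R] A) := by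
  refine ⟨fun _ => central_simple_baseChange A _, fun h => isAzumaya_of_fibres A fun m hm => ?_⟩
  obtain rfl := IsLocalRing.eq_maximalIdeal hm
  have hk := (isAzumaya_iff_central_simple _ _).mpr h
  let k := IsLocalRing.ResidueField R
  let k' := (IsLocalRing.maximalIdeal R).ResidueField
  let e : k →ₐ[R] k' := Ideal.Quotient.liftₐ (IsLocalRing.maximalIdeal R) (Algebra.ofId R k') fun a ha =>
    Ideal.algebraMap_residueField_eq_zero.mpr ha
  let : Algebra k k' := e.toRingHom.toAlgebra
  have : IsScalarTower R k k' := IsScalarTower.of_algebraMap_eq fun r => (e.commutes r).symm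
  have := isAzumaya_baseChange (R := k) k' (k ⊗[R] A)
  exact IsAzumaya.of_AlgEquiv k' _ _ (cancelBaseChange R k k' A)

end Groth.Agent.Lib.Azumaya.Criterion
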