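import Groth.Agent.Lib.Azumaya.Criterion
import Mathlib.RingTheory.LocalRing.Module
import Mathlib.RingTheory.Flat.Basic

/-!
# Skolem–Noether over a local ring
-/

open scoped TensorProduct
open MulOpposite

namespace Groth.Agent.Lib.Azumaya.Inner

universe u v

variable {R : Type u} [CommRing R] [IsLocalRing R] {A : Type v} [Ring A] [Algebra R A]

local notation "k" => IsLocalRing.ResidueField R

theorem res_smul_eq_zero {r : R} (hr : IsLocalRing.residue R r = 0) (z : k ⊗[R] A) : r • z = 0 := by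
  rw [← algebraMap_smul k r z, IsLocalRing.ResidueField.algebraMap_eq, hr, zero_smul]

theorem exists_twisting [IsAzumaya R A] (u : A ≃ₐ[R] A) :
    ∃ a : A, (1 : k) ⊗ₜ[R] a ≠ 0 ∧ ∀ x, u x * a = a * x := by
  classical
  have : Module.Free R A := Module.free_of_flat_of_isLocalRing
  have hcs := Criterion.central_simple_baseChange A k (R := R)
  have := hcs.2
  let b := Module.Free.chooseBasis R A
  have hne : (1 : k) ⊗ₜ[R] (1 : A) ≠ 0 := by
    rw [← Algebra.TensorProduct.one_def]; exact one_ne_zero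
  obtain ⟨j₀⟩ : Nonempty (Module.Free.ChooseBasisIndex R A) := by
    by_contra h
    rw [not_nonempty_iff] at h
    have : Subsingleton A := b.repr.toEquiv.subsingleton
    exact hne (by rw [Subsingleton.elim (1 : A) 0, TensorProduct.tmul_zero])
  let e := AlgEquiv.ofBijective (AlgHom.mulLeftRight R A) IsAzumaya.bij
  let Φ : Module.End R A ≃ₐ[R] Module.End R A :=
    e.symm.trans ((Algebra.TensorProduct.congr u AlgEquiv.refl).trans e)
  have hΦ : ∀ a c : A, Φ (AlgHom.mulLeftRight R A (a ⊗ₜ op c)) = AlgHom.mulLeftRight R A (u a ⊗ₜ op c) := by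
    intro a c
    change e (Algebra.TensorProduct.congr u AlgEquiv.refl (e.symm (e (a ⊗ₜ op c)))) = _
    rw [AlgEquiv.symm_apply_apply]
    rfl
  let θ : A → Module.End R A := fun x => (b.coord j₀).smulRight x
  obtain ⟨w, hw⟩ : ∃ w, (1 : k) ⊗ₜ[R] (Φ (θ 1) w) ≠ 0 := by
    by_contra h
    push Not at h
    apply hne
    let B := b.linearMap b
    have hcoef : ∀ p, IsLocalRing.residue R (B.repr (Φ (θ 1)) p) = 0 := by
      rintro ⟨i, j⟩
      have h1 : IsLocalRing.residue R (b.repr (Φ (θ 1) (b j)) i) = 0 := by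
        have h2 := congr_arg (fun z => (b.baseChange k).repr z i) (h (b j))
        simpa [Algebra.smul_def] using h2
      have hB : B.repr (Φ (θ 1)) (i, j) = b.repr (Φ (θ 1) (b j)) i := by
        rw [← LinearMap.toMatrix_apply b b]
        simp [B, Module.Basis.linearMap]
        rfl
      rw [hB]
      exact h1
    have h3 : θ 1 = ∑ p, B.repr (Φ (θ 1)) p • Φ.symm (B p) := by
      apply Φ.injective
      simp only [map_sum, map_smul, AlgEquiv.apply_symm_apply, B.sum_repr]
    have h4 := congr_arg (fun f : Module.End R A => (1 : k) ⊗ₜ[R] f (b j₀)) h3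
    simp only [θ, LinearMap.smulRight_apply, Module.Basis.coord_apply, Module.Basis.repr_self,
      Finsupp.single_eq_same, one_smul, LinearMap.coe_sum, Finset.sum_apply, LinearMap.smul_apply,
      TensorProduct.tmul_sum, TensorProduct.tmul_smul] at h4
    rw [h4]
    exact Finset.sum_eq_zero fun p _ => res_smul_eq_zero (hcoef p) _
  let T : A → A := fun x => Φ (θ x) w
  have hT : ∀ a c x, T (a * x * c) = u a * T x * c := by
    intro a c x
    have h1 : θ (a * x * c) = AlgHom.mulLeftRight R A (a ⊗ₜ op c) * θ x := by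
      ext y
      simp [θ, mul_assoc]
    simp only [T, h1, map_mul, hΦ, Module.End.mul_apply, AlgHom.mulLeftRight_apply, unop_op]
  refine ⟨T 1, hw, fun x => ?_⟩
  have h1 := hT x 1 1
  have h2 := hT 1 x 1
  rw [mul_one, mul_one, mul_one] at h1
  rw [one_mul, one_mul, map_one, one_mul] at h2
  rw [← h1, h2]

/-- Every automorphism of an Azumaya algebra over a local ring is inner. -/
theorem exists_unit_conj [IsAzumaya R A] (u : A ≃ₐ[R] A) :
    ∃ a : Aˣ, ∀ x : A, u x = (a : A) * x * (a⁻¹ : Aˣ) := by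
  obtain ⟨a, ha, hcomm⟩ := exists_twisting u
  have hs := (Criterion.central_simple_baseChange A k (R := R)).2
  have hsurj : Function.Surjective fun x : A => (1 : k) ⊗ₜ[R] x :=
    TensorProduct.mk_surjective R A k Ideal.Quotient.mk_surjective
  let abar := (1 : k) ⊗ₜ[R] a
  let I : TwoSidedIdeal (k ⊗[R] A) := .mk' {z | ∃ y, z = y * abar}
    ⟨0, (zero_mul _).symm⟩
    (fun {y z} ⟨p, hp⟩ ⟨q, hq⟩ => ⟨p + q, by rw [hp, hq, add_mul]⟩)
    (fun {z} ⟨p, hp⟩ => ⟨-p, by rw [hp, neg_mul]⟩)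
    (fun {y z} ⟨p, hp⟩ => ⟨y * p, by rw [hp, mul_assoc]⟩)
    (fun {y z} ⟨p, hp⟩ => by
      obtain ⟨x, rfl⟩ := hsurj z
      refine ⟨p * (1 ⊗ₜ[R] u x), ?_⟩
      rw [hp, mul_assoc, mul_assoc, Algebra.TensorProduct.tmul_mul_tmul, Algebra.TensorProduct.tmul_mul_tmul,
        hcomm])
  have hmem : ∀ z, z ∈ I ↔ ∃ y, z = y * abar := fun z => TwoSidedIdeal.mem_mk' ..
  have htop : I = ⊤ := by
    rcases IsSimpleRing.simple.eq_bot_or_eq_top I with h | h
    · exact absurd ((TwoSidedIdeal.mem_bot _).mp (h ▸ (hmem abar).mpr ⟨1, (one_mul _).symm⟩)) ha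
    · exact h
  obtain ⟨y, hy⟩ := (hmem 1).mp (htop ▸ trivial)
  have hleft : ∀ z, ∃ x, z = (1 : k) ⊗ₜ[R] (x * a) := fun z => by
    obtain ⟨p, hp⟩ := (hmem z).mp (htop ▸ trivial)
    obtain ⟨x, rfl⟩ := hsurj p
    exact ⟨x, by rw [hp, Algebra.TensorProduct.tmul_mul_tmul, one_mul]⟩
  have htop' : LinearMap.range (LinearMap.mulRight R a) = ⊤ := by
    rw [← IsLocalRing.map_tensorProduct_mk_eq_top, eq_top_iff]
    intro z _
    obtain ⟨x, rfl⟩ := hleft z
    exact ⟨x * a, ⟨x, rfl⟩, rfl⟩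
  obtain ⟨y, hy : y * a = 1⟩ := LinearMap.range_eq_top.mp htop' 1
  have hy' : a * u.symm y = 1 := by
    rw [← hcomm, u.apply_symm_apply, hy]
  have hay : a * y = 1 := by
    have : y = u.symm y := left_inv_eq_right_inv hy hy'
    rwa [← this] at hy'
  exact ⟨⟨a, y, hay, hy⟩, fun x => by simp only [Units.inv_mk]; rw [← hcomm, mul_assoc, hay, mul_one]⟩

theorem unit_unique [IsAzumaya R A] (u : A → A) (a a' : Aˣ)
    (h : ∀ x : A, u x = (a : A) * x * (a⁻¹ : Aˣ)) (h' : ∀ x : A, u x = (a' : A) * x * (a'⁻¹ : Aˣ)) :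
    ∃ c : Rˣ, (a' : A) = algebraMap R A (c : R) * (a : A) := by
  have : Module.Free R A := Module.free_of_flat_of_isLocalRing
  have hz : ((a⁻¹ * a' : Aˣ) : A) ∈ Subalgebra.center R A := by
    rw [Subalgebra.mem_center_iff]
    intro x
    have := (h x).symm.trans (h' x)
    have h2 := congr_arg (fun z => ((a⁻¹ : Aˣ) : A) * z * (a' : A)) this
    simpa [mul_assoc] using h2
  have hz' : ((a'⁻¹ * a : Aˣ) : A) ∈ Subalgebra.center R A := by
    rw [Subalgebra.mem_center_iff]
    intro x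
    have := (h' x).symm.trans (h x)
    have h2 := congr_arg (fun z => ((a'⁻¹ : Aˣ) : A) * z * (a : A)) this
    simpa [mul_assoc] using h2
  rw [Algebra.IsCentral.center_eq_bot, Algebra.mem_bot] at hz hz'
  obtain ⟨c, hc⟩ := hz
  obtain ⟨c', hc'⟩ := hz'
  have hcc : c * c' = 1 := FaithfulSMul.algebraMap_injective R A (by
    rw [map_mul, hc, hc', map_one, ← Units.val_mul]
    simp)
  refine ⟨Units.mkOfMulEqOne c c' hcc, ?_⟩
  rw [Units.val_mkOfMulEqOne, Algebra.commutes, hc, ← Units.val_mul, mul_inv_cancel_left]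

end Groth.Agent.Lib.Azumaya.Inner
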