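import Mathlib.Algebra.Azumaya.Basic
import Mathlib.LinearAlgebra.Contraction
import Mathlib.LinearAlgebra.TensorProduct.Tower
import Mathlib.LinearAlgebra.Matrix.ToLin
import Mathlib.RingTheory.TensorProduct.Free
import Mathlib.RingTheory.Nakayama
import Mathlib.RingTheory.OrzechProperty
import Mathlib.RingTheory.LocalRing.Module
import Mathlib.LinearAlgebra.FreeModule.Finite.Matrix

/-!
# Base change of Azumaya algebras
-/

open scoped TensorProduct
open MulOpposite

namespace Groth.Agent.Lib.Azumaya.BaseChange

universe u v w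

variable {R : Type u} [CommRing R] (S : Type v) [CommRing S] [Algebra R S]

section End

variable {M : Type w} [AddCommGroup M] [Module R M]

theorem tensorProductEnd_surjective_of_basis {ι : Type*} [Finite ι] (b : Module.Basis ι R M) :
    Function.Surjective (LinearMap.tensorProductEnd R S M) := by
  classical
  have := Fintype.ofFinite ι
  intro g
  let bS := b.baseChange S
  refine ⟨∑ i, ∑ j, bS.repr (g (bS j)) i ⊗ₜ[R] b.constr R (Pi.single j (b i)), bS.ext fun l => ?_⟩
  conv_rhs => rw [← bS.sum_repr (g (bS l))]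
  simp only [map_sum, LinearMap.coe_sum, Finset.sum_apply, LinearMap.tensorProductEnd, bS,
    Module.Basis.baseChange_apply, Algebra.TensorProduct.algHomOfLinearMapTensorProduct_apply,
    LinearMap.tensorProduct, TensorProduct.AlgebraTensorModule.lift_apply, TensorProduct.lift.tmul,
    LinearMap.coe_restrictScalars, LinearMap.coe_mk, AddHom.coe_mk, LinearMap.smul_apply,
    LinearMap.baseChangeHom_apply, LinearMap.baseChange_tmul, Module.Basis.constr_basis]
  refine Finset.sum_congr rfl fun i _ => ?_
  rw [Finset.sum_eq_single l]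
  · simp
  · intro j _ hj
    simp [Pi.single_eq_of_ne (Ne.symm hj)]
  · simp

theorem tensorProductEnd_bijective_of_basis {ι : Type*} [Finite ι] (b : Module.Basis ι R M) :
    Function.Bijective (LinearMap.tensorProductEnd R S M) := by
  classical
  have := Fintype.ofFinite ι
  have hs := tensorProductEnd_surjective_of_basis S b
  refine ⟨?_, hs⟩
  let e : Module.End S (S ⊗[R] M) ≃ₗ[S] S ⊗[R] Module.End R M :=
    ((b.baseChange S).linearMap (b.baseChange S)).equiv ((b.linearMap b).baseChange S) (Equiv.refl _)
  have := Module.Finite.of_basis ((b.linearMap b).baseChange S)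
  have h := OrzechProperty.injective_of_surjective_endomorphism
    (e.toLinearMap ∘ₗ (LinearMap.tensorProductEnd R S M).toLinearMap) (e.surjective.comp hs)
  rw [LinearMap.coe_comp] at h
  exact Function.Injective.of_comp (f := ⇑e.toLinearMap) h

theorem tensorProductEnd_bijective [Module.Finite R M] [Module.Projective R M] :
    Function.Bijective (LinearMap.tensorProductEnd R S M) := by
  obtain ⟨n, π, i, -, -, hπi⟩ := Module.Finite.exists_comp_eq_id_of_projective R M
  have hπi' : (π.baseChange S) ∘ₗ (i.baseChange S) = LinearMap.id := by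
    rw [← LinearMap.baseChange_comp, hπi, LinearMap.baseChange_id]
  have hbij := tensorProductEnd_bijective_of_basis S (Pi.basisFun R (Fin n))
  let ρ : Module.End R M →ₗ[R] Module.End R (Fin n → R) :=
    LinearMap.llcomp R _ _ _ i ∘ₗ π.lcomp R M
  let σ : Module.End R (Fin n → R) →ₗ[R] Module.End R M :=
    LinearMap.llcomp R _ _ _ π ∘ₗ i.lcomp R (Fin n → R)
  have hρ : ∀ x : S ⊗[R] Module.End R M, LinearMap.tensorProductEnd R S (Fin n → R) (ρ.baseChange S x) =
      (i.baseChange S) ∘ₗ (LinearMap.tensorProductEnd R S M x) ∘ₗ (π.baseChange S) := fun x => by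
    induction x using TensorProduct.induction_on with
    | zero => simp
    | add x y hx hy => simp only [map_add, hx, hy, LinearMap.add_comp, LinearMap.comp_add]
    | tmul s f =>
      refine TensorProduct.AlgebraTensorModule.ext fun t m => ?_
      simp [ρ, LinearMap.tensorProductEnd, LinearMap.tensorProduct]
  have hσ : ∀ x : S ⊗[R] Module.End R (Fin n → R), LinearMap.tensorProductEnd R S M (σ.baseChange S x) =
      (π.baseChange S) ∘ₗ (LinearMap.tensorProductEnd R S (Fin n → R) x) ∘ₗ (i.baseChange S) := fun x => by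
    induction x using TensorProduct.induction_on with
    | zero => simp
    | add x y hx hy => simp only [map_add, hx, hy, LinearMap.add_comp, LinearMap.comp_add]
    | tmul s f =>
      refine TensorProduct.AlgebraTensorModule.ext fun t m => ?_
      simp [σ, LinearMap.tensorProductEnd, LinearMap.tensorProduct]
  have hσρ : σ ∘ₗ ρ = LinearMap.id := LinearMap.ext fun f => LinearMap.ext fun m => by
    have h : ∀ y, π (i y) = y := fun y => LinearMap.congr_fun hπi y
    simp [σ, ρ, h]
  constructor
  · intro x y hxy
    have h : ρ.baseChange S x = ρ.baseChange S y := hbij.1 (by rw [hρ, hρ, hxy])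
    have h2 := congr_arg (σ.baseChange S) h
    rwa [← LinearMap.comp_apply, ← LinearMap.baseChange_comp, hσρ, LinearMap.baseChange_id,
      LinearMap.id_apply, ← LinearMap.comp_apply, ← LinearMap.baseChange_comp, hσρ, LinearMap.baseChange_id,
      LinearMap.id_apply] at h2
  · intro g
    obtain ⟨y, hy⟩ := hbij.2 ((i.baseChange S) ∘ₗ g ∘ₗ (π.baseChange S))
    refine ⟨σ.baseChange S y, LinearMap.ext fun z => ?_⟩
    rw [hσ, hy]
    have h : ∀ w, π.baseChange S (i.baseChange S w) = w := fun w => LinearMap.congr_fun hπi' w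
    simp [h]

end End

variable (A : Type w) [Ring A] [Algebra R A]

/-- `S ⊗ (A ⊗ Aᵒᵖ) ≃ (S ⊗ A) ⊗ (S ⊗ A)ᵒᵖ`. -/
noncomputable def opTensor : S ⊗[R] (A ⊗[R] Aᵐᵒᵖ) ≃ₗ[S] (S ⊗[R] A) ⊗[S] (S ⊗[R] A)ᵐᵒᵖ :=
  TensorProduct.AlgebraTensorModule.distribBaseChange R S A Aᵐᵒᵖ ≪≫ₗ
    TensorProduct.congr (LinearEquiv.refl S _)
      (((opLinearEquiv R (M := A)).symm.baseChange R S Aᵐᵒᵖ A) ≪≫ₗ (opLinearEquiv S (M := S ⊗[R] A)))

theorem opTensor_tmul (s : S) (a b : A) :
    opTensor S A (s ⊗ₜ[R] (a ⊗ₜ[R] op b)) = (s ⊗ₜ[R] a) ⊗ₜ[S] op ((1 : S) ⊗ₜ[R] b) := by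
  simp [opTensor]

theorem mulLeftRight_baseChange_eq (x : S ⊗[R] (A ⊗[R] Aᵐᵒᵖ)) :
    AlgHom.mulLeftRight S (S ⊗[R] A) (opTensor S A x) =
      LinearMap.tensorProductEnd R S A ((AlgHom.mulLeftRight R A).toLinearMap.baseChange S x) := by
  induction x using TensorProduct.induction_on with
  | zero => simp
  | add x y hx hy => simp only [map_add, hx, hy]
  | tmul s ab =>
    induction ab using TensorProduct.induction_on with
    | zero => simp
    | add a b ha hb => simp only [TensorProduct.tmul_add, map_add, ha, hb]
    | tmul a b =>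
      induction b using MulOpposite.rec' with
      | _ b =>
      refine TensorProduct.AlgebraTensorModule.ext fun t x => ?_
      simp [opTensor_tmul, LinearMap.tensorProductEnd, LinearMap.tensorProduct, TensorProduct.smul_tmul']

theorem mulLeftRight_baseChange_bijective_iff [Module.Finite R A] [Module.Projective R A] :
    Function.Bijective (AlgHom.mulLeftRight S (S ⊗[R] A)) ↔
      Function.Bijective ((AlgHom.mulLeftRight R A).toLinearMap.lTensor S) := by
  have h : AlgHom.mulLeftRight S (S ⊗[R] A) ∘ opTensor S A =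
      LinearMap.tensorProductEnd R S A ∘ (AlgHom.mulLeftRight R A).toLinearMap.lTensor S :=
    funext fun x => (mulLeftRight_baseChange_eq S A x).trans (by rw [LinearMap.baseChange_eq_ltensor]; rfl)
  rw [← Function.Bijective.of_comp_iff' (tensorProductEnd_bijective S (M := A)), ← h,
    Function.Bijective.of_comp_iff _ (LinearEquiv.bijective _)]

section Trace

variable (R) (M : Type w) [AddCommGroup M] [Module R M]

/-- The trace ideal of a module. -/
def traceIdeal : Ideal R := Ideal.span (Set.range fun p : Module.Dual R M × M => p.1 p.2)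

theorem le_traceIdeal_smul_top [Module.Projective R M] :
    (⊤ : Submodule R M) ≤ traceIdeal R M • ⊤ := by
  obtain ⟨s, hs⟩ := Module.projective_def'.mp ‹Module.Projective R M›
  intro x _
  rw [← LinearMap.id_apply (R := R) x, ← hs, LinearMap.comp_apply, Finsupp.linearCombination_apply]
  refine Submodule.sum_mem _ fun i _ => Submodule.smul_mem_smul ?_ trivial
  exact Ideal.subset_span ⟨((Finsupp.lapply i).comp s, x), rfl⟩

theorem traceIdeal_eq_top [Module.Projective R M] [Module.Finite R M] [FaithfulSMul R M] :
    traceIdeal R M = ⊤ := by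
  obtain ⟨r, hr, hr'⟩ := Submodule.exists_sub_one_mem_and_smul_eq_zero_of_fg_of_le_smul _ _
    Module.Finite.fg_top (le_traceIdeal_smul_top R M)
  have : r = 0 := FaithfulSMul.eq_of_smul_eq_smul (α := M) fun x => by rw [hr' x trivial, zero_smul]
  rw [Ideal.eq_top_iff_one, ← Ideal.neg_mem_iff]
  simpa [this] using hr

theorem traceIdeal_eq_top_of_nontrivial [Module.Projective R M]
    (h : ∀ (m : Ideal R) [m.IsMaximal], Nontrivial (m.ResidueField ⊗[R] M)) : traceIdeal R M = ⊤ := by
  by_contra hne
  obtain ⟨m, hm, hle⟩ := Ideal.exists_le_maximal _ hne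
  have := h m
  refine not_subsingleton (m.ResidueField ⊗[R] M) ⟨fun a b => ?_⟩
  have hzero : ∀ y : m.ResidueField ⊗[R] M, y = 0 := fun y => by
    induction y using TensorProduct.induction_on with
    | zero => rfl
    | add y z hy hz => rw [hy, hz, add_zero]
    | tmul c x =>
      have hx := le_traceIdeal_smul_top R M (Submodule.mem_top (x := x))
      induction hx using Submodule.smul_induction_on' with
      | smul r hr y _ =>
        rw [TensorProduct.tmul_smul, TensorProduct.smul_tmul', Algebra.smul_def,
          Ideal.algebraMap_residueField_eq_zero.mpr (hle hr), zero_mul, TensorProduct.zero_tmul]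
      | add y _ z _ hy hz => rw [TensorProduct.tmul_add, hy, hz, add_zero]
  rw [hzero a, hzero b]

theorem faithfulSMul_baseChange_of_traceIdeal (h : traceIdeal R M = ⊤) :
    FaithfulSMul S (S ⊗[R] M) := by
  refine ⟨fun {s t} hst => sub_eq_zero.mp ?_⟩
  have hann : ∀ y : S ⊗[R] M, (s - t) • y = 0 := fun y => by
    rw [sub_eq_add_neg, add_smul, hst, ← add_smul, add_neg_cancel, zero_smul]
  have : ∀ r ∈ traceIdeal R M, (s - t) * algebraMap R S r = 0 := by
    intro r hr
    induction hr using Submodule.span_induction with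
    | mem x hx =>
      obtain ⟨⟨φ, m⟩, rfl⟩ := hx
      have := congr_arg (TensorProduct.AlgebraTensorModule.rid R S S ∘ₗ φ.baseChange S : S ⊗[R] M →ₗ[S] S)
        (hann (1 ⊗ₜ m))
      simpa [Algebra.smul_def] using this
    | zero => simp
    | add x y _ _ hx hy => rw [map_add, mul_add, hx, hy, add_zero]
    | smul a x _ hx => rw [smul_eq_mul, map_mul, mul_left_comm, hx, mul_zero]
  simpa using this 1 (h ▸ trivial)

end Trace

/-- The base change of an Azumaya algebra is an Azumaya algebra. -/
theorem isAzumaya_baseChange [IsAzumaya R A] : IsAzumaya S (S ⊗[R] A) := by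
  have := faithfulSMul_baseChange_of_traceIdeal (S := S) (R := R) (M := A) (traceIdeal_eq_top R A)
  refine ⟨?_⟩
  rw [mulLeftRight_baseChange_bijective_iff]
  exact ((LinearEquiv.ofBijective (AlgHom.mulLeftRight R A).toLinearMap IsAzumaya.bij).lTensor S).bijective

end Groth.Agent.Lib.Azumaya.BaseChange
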