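import Groth.Agent.Lib.Azumaya.Criterion
import Mathlib.RingTheory.Unramified.Field
import Mathlib.RingTheory.Artinian.Module
import Mathlib.FieldTheory.IsAlgClosed.AlgebraicClosure
import Mathlib.FieldTheory.Separable
import Mathlib.LinearAlgebra.Matrix.ToLin

/-!
# Étale subalgebras of maximal dimension in central simple algebras
-/

open scoped TensorProduct

namespace Groth.Agent.Lib.Azumaya.Etale

universe u v w

theorem formallyUnramified_of_isSeparable (k : Type u) [Field k] (B : Type v) [CommRing B] [Algebra k B]
    [Algebra.IsSeparable k B] : Algebra.FormallyUnramified k B := by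
  refine ⟨subsingleton_of_forall_eq 0 fun z => ?_⟩
  have hz : z ∈ Submodule.span B (Set.range (KaehlerDifferential.D k B)) := by
    rw [KaehlerDifferential.span_range_derivation]; trivial
  induction hz using Submodule.span_induction with
  | mem z hz =>
    obtain ⟨x, rfl⟩ := hz
    have h0 := congr_arg (KaehlerDifferential.D k B) (minpoly.aeval k x)
    rw [Derivation.map_aeval, map_zero] at h0
    obtain ⟨a, b, hab⟩ := (Algebra.IsSeparable.isSeparable k x : IsSeparable k x)
    have hu := congr_arg (Polynomial.aeval x) hab
    rw [map_add, map_mul, map_mul, minpoly.aeval, mul_zero, zero_add, map_one] at hu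
    rw [← one_smul B (KaehlerDifferential.D k B x), ← hu, mul_smul, h0, smul_zero]
  | zero => rfl
  | add y z _ _ hy hz => rw [hy, hz, add_zero]
  | smul a y _ hy => rw [hy, smul_zero]

/-- A reduced finite algebra over an algebraically closed field is split. -/
theorem exists_pi_equiv (K : Type u) [Field K] [IsAlgClosed K] (B : Type v) [CommRing B] [Algebra K B]
    [Module.Finite K B] [IsReduced B] :
    ∃ (n : ℕ), n = Module.finrank K B ∧ Nonempty (B ≃ₐ[K] (Fin n → K)) := by
  classical
  have : IsArtinianRing B := isArtinian_of_tower K inferInstance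
  have : Finite (MaximalSpectrum B) := inferInstance
  let e₁ : B ≃ₐ[K] ∀ I : MaximalSpectrum B, B ⧸ I.asIdeal := (IsArtinianRing.equivPi B).restrictScalars K
  let e₂ : ∀ I : MaximalSpectrum B, K ≃ₐ[K] B ⧸ I.asIdeal := fun I =>
    letI := Ideal.Quotient.field I.asIdeal
    AlgEquiv.ofBijective (Algebra.ofId K _) IsAlgClosed.algebraMap_bijective_of_isIntegral
  let N := Nat.card (MaximalSpectrum B)
  let e₃ : MaximalSpectrum B ≃ Fin N := Finite.equivFin _
  let e : B ≃ₐ[K] (Fin N → K) :=
    (e₁.trans (AlgEquiv.piCongrRight fun I => (e₂ I).symm)).trans (AlgEquiv.piCongrLeft' K (fun _ => K) e₃)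
  exact ⟨N, by rw [e.toLinearEquiv.finrank_eq, Module.finrank_fin_fun], ⟨e⟩⟩

/-- Orthogonal nonzero idempotents in maximal number: the commutant is small. -/
theorem finrank_le_of_commute {K : Type u} [Field K] {r : ℕ} (p : Fin r → Matrix (Fin r) (Fin r) K)
    (hp : ∀ i j, p i * p j = if i = j then p i else 0) (hne : ∀ i, p i ≠ 0)
    (C : Submodule K (Matrix (Fin r) (Fin r) K)) (hC : ∀ x ∈ C, ∀ i, x * p i = p i * x) :
    Module.finrank K C ≤ r := by
  classical
  have hv : ∀ i, ∃ w, (p i).mulVec w ≠ 0 := fun i => by
    by_contra h
    push Not at h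
    exact hne i (Matrix.toLin'.injective (LinearMap.ext fun w => by simpa using h w))
  choose w hw using hv
  let v : Fin r → Fin r → K := fun i => (p i).mulVec (w i)
  have hpv : ∀ i j, (p i).mulVec (v j) = if i = j then v j else 0 := by
    intro i j
    simp only [v, Matrix.mulVec_mulVec, hp]
    split_ifs with h
    · rw [h]
    · rw [Matrix.zero_mulVec]
  have hli : LinearIndependent K v := by
    rw [Fintype.linearIndependent_iff]
    intro c hc i
    have h := congr_arg (p i).mulVec hc
    simp only [Matrix.mulVec_sum, Matrix.mulVec_smul, hpv, Matrix.mulVec_zero, smul_ite, smul_zero,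
      Finset.sum_ite_eq, Finset.mem_univ, if_true] at h
    exact (smul_eq_zero.mp h).resolve_right (hw i)
  rcases Nat.eq_zero_or_pos r with hr | hr
  · subst hr
    have := Submodule.finrank_le C
    simpa [Module.finrank_matrix] using this
  have : Nonempty (Fin r) := ⟨⟨0, hr⟩⟩
  let b := basisOfLinearIndependentOfCardEqFinrank hli (by simp)
  have hb : ∀ i, b i = v i := fun i => by simp [b]
  let Λ : C →ₗ[K] (Fin r → K) :=
    { toFun := fun x i => b.repr (x.1.mulVec (v i)) i
      map_add' := fun x y => funext fun i => by simp [Matrix.add_mulVec]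
      map_smul' := fun c x => funext fun i => by simp [Matrix.smul_mulVec] }
  have hinj : Function.Injective Λ := by
    rw [injective_iff_map_eq_zero]
    intro x hx
    apply Subtype.ext
    apply Matrix.toLin'.injective
    refine b.ext fun i => ?_
    rw [Matrix.toLin'_apply, hb]
    simp only [ZeroMemClass.coe_zero, map_zero, LinearMap.zero_apply]
    have h1 : (p i).mulVec (x.1.mulVec (v i)) = x.1.mulVec (v i) := by
      rw [Matrix.mulVec_mulVec, ← hC _ x.2, ← Matrix.mulVec_mulVec, hpv, if_pos rfl]
    rw [← h1, ← b.sum_repr (x.1.mulVec (v i)), Matrix.mulVec_sum]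
    refine Finset.sum_eq_zero fun j _ => ?_
    rw [Matrix.mulVec_smul, hb, hpv]
    split_ifs with h
    · subst h
      rw [show b.repr (x.1.mulVec (v i)) i = 0 from congr_fun hx i, zero_smul]
    · rw [smul_zero]
  have := LinearMap.finrank_le_finrank_of_injective hinj
  simpa using this

variable {k : Type u} [Field k] {A : Type v} [Ring A] [Algebra k A] [Algebra.IsCentral k A]
    [IsSimpleRing A] [FiniteDimensional k A]

/-- The centralizer of an étale subalgebra of maximal dimension is the subalgebra itself. -/
theorem centralizer_range_eq {B : Type w} [CommRing B] [Algebra k B] [Module.Finite k B]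
    [Algebra.FormallyUnramified k B] (u : B →ₐ[k] A) (hu : Function.Injective u) (r : ℕ)
    (hA : Module.finrank k A = r ^ 2) (hB : Module.finrank k B = r) :
    Subalgebra.centralizer k (u.range : Set A) = u.range := by
  classical
  let K := AlgebraicClosure k
  let BK := K ⊗[k] B
  let AK := K ⊗[k] A
  have : Algebra.FormallyUnramified K BK := inferInstance
  have : IsReduced BK := Algebra.FormallyUnramified.isReduced_of_field K BK
  have hBK : Module.finrank K BK = r := by rw [Module.finrank_baseChange, hB]
  obtain ⟨n, hn, ⟨eB⟩⟩ := exists_pi_equiv K BK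
  rw [hBK] at hn
  subst hn
  have := Groth.Agent.Lib.CSA.Basic.isAzumaya k A
  have hsimp := Criterion.central_simple_baseChange A K (R := k)
  have := hsimp.1
  have := hsimp.2
  obtain ⟨m, hm, ⟨eA⟩⟩ := Groth.Agent.Lib.CSA.Basic.exists_algEquiv_matrix_of_isSepClosed K AK
  obtain rfl : m = n := by
    have h := eA.toLinearEquiv.finrank_eq
    rw [Module.finrank_baseChange, hA, Module.finrank_matrix] at h
    simp at h
    nlinarith [Nat.pow_left_injective two_ne_zero (a₁ := n) (a₂ := m) (by simpa [sq] using h)]
  let uK : BK →ₐ[K] AK := Algebra.TensorProduct.map (AlgHom.id K K) u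
  have huK : Function.Injective uK := by
    have : ⇑uK = u.toLinearMap.lTensor K := by
      funext z
      induction z using TensorProduct.induction_on with
      | zero => simp
      | tmul a b => rfl
      | add a b ha hb => rw [map_add, map_add, ha, hb]
    rw [this]
    exact Module.Flat.lTensor_preserves_injective_linearMap _ hu
  let φ : (Fin m → K) →ₐ[K] Matrix (Fin m) (Fin m) K := (eA.toAlgHom.comp uK).comp eB.symm.toAlgHom
  have hφ : Function.Injective φ := (eA.injective.comp huK).comp eB.symm.injective
  let p : Fin m → Matrix (Fin m) (Fin m) K := fun i => φ (Pi.single i 1)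
  let C := Subalgebra.centralizer k (u.range : Set A)
  let ι : K ⊗[k] C →ₗ[K] Matrix (Fin m) (Fin m) K :=
    eA.toLinearEquiv.toLinearMap ∘ₗ (C.val.toLinearMap.baseChange K)
  have hι : Function.Injective ι := by
    refine eA.injective.comp ?_
    rw [LinearMap.baseChange_eq_ltensor]
    exact Module.Flat.lTensor_preserves_injective_linearMap _ Subtype.val_injective
  have hle : Module.finrank K (LinearMap.range ι) ≤ m := by
    refine finrank_le_of_commute p (fun i j => ?_) (fun i h => ?_) _ fun x hx i => ?_
    · simp only [p, ← map_mul]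
      rcases eq_or_ne i j with rfl | h
      · simp [← Pi.single_mul]
      · rw [if_neg h]
        have : (Pi.single i 1 : Fin m → K) * Pi.single j 1 = 0 := by
          funext l
          by_cases h1 : l = i
          · subst h1; simp [Pi.single_eq_of_ne h]
          · simp [Pi.single_eq_of_ne h1]
        rw [this, map_zero]
    · have := hφ (h.trans (map_zero φ).symm)
      simpa using congr_fun this i
    · obtain ⟨z, rfl⟩ := hx
      have hcomm : ∀ (b : BK) (z : K ⊗[k] C), C.val.toLinearMap.baseChange K z * uK b =
          uK b * C.val.toLinearMap.baseChange K z := by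
        intro b z
        induction z using TensorProduct.induction_on with
        | zero => simp
        | add y z hy hz => rw [map_add, add_mul, mul_add, hy, hz]
        | tmul a c =>
          induction b using TensorProduct.induction_on with
          | zero => simp
          | add y z hy hz => rw [map_add, mul_add, add_mul, hy, hz]
          | tmul a' b =>
            change (a ⊗ₜ[k] (c : A)) * (a' ⊗ₜ[k] u b) = (a' ⊗ₜ[k] u b) * (a ⊗ₜ[k] (c : A))
            rw [Algebra.TensorProduct.tmul_mul_tmul, Algebra.TensorProduct.tmul_mul_tmul,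
              (Subalgebra.mem_centralizer_iff _).mp c.2 (u b) ⟨b, rfl⟩, mul_comm a a']
      change eA _ * eA _ = eA _ * eA _
      rw [← map_mul, ← map_mul]
      exact congr_arg eA (hcomm _ z)
  rw [LinearMap.finrank_range_of_inj hι, Module.finrank_baseChange] at hle
  have hle' : u.range ≤ C := by
    rintro _ ⟨b, rfl⟩
    rw [Subalgebra.mem_centralizer_iff]
    rintro _ ⟨b', rfl⟩
    change u b' * u b = u b * u b'
    rw [← map_mul, ← map_mul, mul_comm]
  refine (Subalgebra.eq_of_le_of_finrank_le hle' (hle.trans ?_)).symm
  rw [← (AlgEquiv.ofInjective u hu).toLinearEquiv.finrank_eq, hB]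

end Groth.Agent.Lib.Azumaya.Etale
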