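import Groth.Agent.Lib.Azumaya.Etale
import Mathlib.RingTheory.LocalRing.Module
import Mathlib.RingTheory.SimpleModule.InjectiveProjective
import Mathlib.LinearAlgebra.TensorProduct.Quotient

/-!
# A central simple algebra is free over an étale subalgebra of maximal dimension
-/

open scoped TensorProduct

namespace Groth.Agent.Lib.Azumaya.EtaleFree

universe u v w

variable {K : Type u} [Field K]

theorem finrank_range_baseChange {k : Type u} [Field k] (K : Type w) [Field K] [Algebra k K]
    {M N : Type v} [AddCommGroup M] [Module k M] [AddCommGroup N] [Module k N] (f : M →ₗ[k] N) :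
    Module.finrank K (LinearMap.range (f.baseChange K)) = Module.finrank k (LinearMap.range f) := by
  have h : f.baseChange K = (LinearMap.range f).subtype.baseChange K ∘ₗ f.rangeRestrict.baseChange K := by
    rw [← LinearMap.baseChange_comp]; rfl
  have hs : Function.Surjective (f.rangeRestrict.baseChange K) := by
    rw [LinearMap.baseChange_eq_ltensor]; exact LinearMap.lTensor_surjective K f.surjective_rangeRestrict
  have hi : Function.Injective ((LinearMap.range f).subtype.baseChange K) := by
    rw [LinearMap.baseChange_eq_ltensor]
    exact Module.Flat.lTensor_preserves_injective_linearMap _ Subtype.val_injective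
  rw [h, LinearMap.range_comp_of_range_eq_top _ (LinearMap.range_eq_top.mpr hs),
    LinearMap.finrank_range_of_inj hi, Module.finrank_baseChange]

/-- Right multiplication by the image of an indicator has rank `r * |S|`. -/
theorem finrank_range_mulRight {r : ℕ} (φ : (Fin r → K) →ₐ[K] Matrix (Fin r) (Fin r) K)
    (hφ : Function.Injective φ) (z : Fin r → K) (hz : IsIdempotentElem z) :
    Module.finrank K (LinearMap.range (LinearMap.mulRight K (φ z))) =
      r * Module.finrank K (LinearMap.range (LinearMap.mulRight K z)) := by
  classical
  let p : Fin r → Matrix (Fin r) (Fin r) K := fun j => φ (Pi.single j 1)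
  have hw : ∀ j, ∃ w : Fin r → K, Matrix.vecMul w (p j) ≠ 0 := fun j => by
    by_contra h
    push Not at h
    have h0 : p j = φ 0 := by
      rw [map_zero]
      ext a b
      have := congr_fun (h (Pi.single a 1)) b
      simpa [Matrix.single_one_vecMul] using this
    simpa using congr_fun (hφ h0) j
  choose w₀ hw₀ using hw
  let w : Fin r → Fin r → K := fun j => Matrix.vecMul (w₀ j) (p j)
  have hwp : ∀ i j, Matrix.vecMul (w i) (p j) = if i = j then w i else 0 := fun i j => by
    simp only [w, Matrix.vecMul_vecMul, p, ← map_mul]
    rcases eq_or_ne i j with rfl | h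
    · simp [← Pi.single_mul]
    · rw [if_neg h, show (Pi.single i 1 : Fin r → K) * Pi.single j 1 = 0 from funext fun l => by
        rcases eq_or_ne l i with rfl | hl
        · simp [Pi.single_eq_of_ne h]
        · simp [Pi.single_eq_of_ne hl], map_zero, Matrix.vecMul_zero]
  have hz01 : ∀ j, z j = 0 ∨ z j = 1 := fun j => IsIdempotentElem.iff_eq_zero_or_one.mp (congr_fun hz j)
  have key : ∀ z : Fin r → K, (∀ j, z j = 0 ∨ z j = 1) →
      r * (Finset.univ.filter fun j => z j = 1).card ≤
        Module.finrank K (LinearMap.range (LinearMap.mulRight K (φ z))) := by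
    intro z hz
    let T := {j // z j = 1}
    let ι : (T → Fin r → K) →ₗ[K] Matrix (Fin r) (Fin r) K :=
      { toFun := fun c => ∑ j : T, Matrix.vecMulVec (c j) (w j)
        map_add' := fun c d => by simp [Matrix.add_vecMulVec, Finset.sum_add_distrib]
        map_smul' := fun a c => by simp [Matrix.smul_vecMulVec, Finset.smul_sum] }
    have hιp : ∀ c (i : T), ι c * p i = Matrix.vecMulVec (c i) (w i) := fun c i => by
      simp only [ι, LinearMap.coe_mk, AddHom.coe_mk, Finset.sum_mul, Matrix.vecMulVec_mul, hwp]
      rw [Finset.sum_eq_single i]
      · rw [if_pos rfl]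
      · intro j _ hj
        rw [if_neg fun h => hj (Subtype.ext h)]
        simp [Matrix.vecMulVec]
        rfl
      · simp
    have hinj : Function.Injective ι := by
      rw [injective_iff_map_eq_zero]
      intro c hc
      funext i
      have h := hιp c i
      rw [hc, zero_mul] at h
      obtain ⟨b, hb⟩ := Function.ne_iff.mp (show w i ≠ 0 from hw₀ i)
      funext a
      have h2 := congr_fun (congr_fun h a) b
      simp only [Matrix.vecMulVec_apply, Matrix.zero_apply] at h2
      exact (mul_eq_zero.mp h2.symm).resolve_right hb
    have hle : LinearMap.range ι ≤ LinearMap.range (LinearMap.mulRight K (φ z)) := by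
      rintro _ ⟨c, rfl⟩
      refine ⟨ι c, ?_⟩
      simp only [ι, LinearMap.coe_mk, AddHom.coe_mk, LinearMap.mulRight_apply, Finset.sum_mul, Matrix.vecMulVec_mul]
      refine Finset.sum_congr rfl fun j _ => ?_
      congr 1
      have hpz : p j * φ z = p j := by
        simp only [p, ← map_mul]
        congr 1
        funext l
        rcases eq_or_ne l (j : Fin r) with rfl | hl
        · simp [j.2]
        · simp [Pi.single_eq_of_ne hl]
      simp only [w, Matrix.vecMul_vecMul, hpz]
    have h1 := Submodule.finrank_mono hle
    rw [LinearMap.finrank_range_of_inj hinj, Module.finrank_pi_fintype] at h1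
    simpa [T, Fintype.card_subtype, mul_comm] using h1
  have hrk : ∀ z : Fin r → K, (∀ j, z j = 0 ∨ z j = 1) →
      Module.finrank K (LinearMap.range (LinearMap.mulRight K z)) = (Finset.univ.filter fun j => z j = 1).card := by
    intro z hz
    let T := {j // z j = 1}
    let ι : (T → K) →ₗ[K] (Fin r → K) :=
      { toFun := fun c j => if h : z j = 1 then c ⟨j, h⟩ else 0
        map_add' := fun c d => funext fun j => by by_cases h : z j = 1 <;> simp [h]
        map_smul' := fun a c => funext fun j => by by_cases h : z j = 1 <;> simp [h] }
    have hι : Function.Injective ι := fun c d h => funext fun i => by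
      have := congr_fun h i.1
      simpa [ι, i.2] using this
    have : LinearMap.range (LinearMap.mulRight K z) = LinearMap.range ι := by
      apply le_antisymm
      · rintro _ ⟨c, rfl⟩
        refine ⟨fun i => c i.1, funext fun j => ?_⟩
        rcases hz j with h | h <;> simp [ι, h]
      · rintro _ ⟨c, rfl⟩
        refine ⟨ι c, funext fun j => ?_⟩
        rcases hz j with h | h <;> simp [ι, h]
    rw [this, LinearMap.finrank_range_of_inj hι, Module.finrank_fintype_fun_eq_card, Fintype.card_subtype]
  rw [hrk z hz01]
  have h1 := key z hz01
  have h2 := key (1 - z) fun j => by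
    rcases hz01 j with h | h <;> simp [h]
  have hcard : (Finset.univ.filter fun j => (1 - z) j = 1).card = r - (Finset.univ.filter fun j => z j = 1).card := by
    have : (Finset.univ.filter fun j => (1 - z) j = 1) = (Finset.univ.filter fun j => z j = 1)ᶜ := by
      ext j
      rcases hz01 j with h | h <;> simp [h]
    rw [this, Finset.card_compl, Fintype.card_fin]
  have hdisj : Disjoint (LinearMap.range (LinearMap.mulRight K (φ z)))
      (LinearMap.range (LinearMap.mulRight K (φ (1 - z)))) := by
    rw [Submodule.disjoint_def]
    rintro x ⟨a, rfl⟩ ⟨b, hb⟩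
    have hb' := congr_arg (fun y => y * φ z) hb
    simp only [LinearMap.mulRight_apply, mul_assoc, ← map_mul, hz.eq,
      show (1 - z) * z = 0 by rw [sub_mul, one_mul, hz.eq, sub_self], map_zero, mul_zero] at hb'
    rw [LinearMap.mulRight_apply]
    exact hb'.symm
  have h3 := Submodule.finrank_sup_add_finrank_inf_eq (LinearMap.range (LinearMap.mulRight K (φ z)))
      (LinearMap.range (LinearMap.mulRight K (φ (1 - z))))
  have h4 := Submodule.finrank_le (LinearMap.range (LinearMap.mulRight K (φ z)) ⊔
    LinearMap.range (LinearMap.mulRight K (φ (1 - z))))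
  rw [hdisj.eq_bot, finrank_bot, add_zero] at h3
  rw [h3, Module.finrank_matrix, Fintype.card_fin, Module.finrank_self, mul_one] at h4
  rw [hcard, Nat.mul_sub] at h2
  have := Nat.mul_le_mul_left r (Finset.card_le_univ (Finset.univ.filter fun j => z j = 1))
  rw [Fintype.card_fin] at this
  omega

variable {k : Type u} [Field k] {A : Type u} [Ring A] [Algebra k A] [Algebra.IsCentral k A]
    [IsSimpleRing A] [FiniteDimensional k A]
variable {B : Type u} [CommRing B] [Algebra k B] [Module.Finite k B] [Algebra.FormallyUnramified k B]

theorem finrank_range_mulRight_idempotent (u : B →ₐ[k] A) (hu : Function.Injective u) (r : ℕ)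
    (hA : Module.finrank k A = r ^ 2) (hB : Module.finrank k B = r) (e : B) (he : IsIdempotentElem e) :
    Module.finrank k (LinearMap.range (LinearMap.mulRight k (u e))) =
      r * Module.finrank k (LinearMap.range (LinearMap.mulRight k e)) := by
  let K := AlgebraicClosure k
  let BK := K ⊗[k] B
  let AK := K ⊗[k] A
  have : Algebra.FormallyUnramified K BK := inferInstance
  have : IsReduced BK := Algebra.FormallyUnramified.isReduced_of_field K BK
  obtain ⟨n, hn, ⟨eB⟩⟩ := Etale.exists_pi_equiv K BK
  rw [Module.finrank_baseChange, hB] at hn
  subst hn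
  have := Groth.Agent.Lib.CSA.Basic.isAzumaya k A
  have hsimp := Criterion.central_simple_baseChange A K (R := k)
  have := hsimp.1
  have := hsimp.2
  obtain ⟨m, hm, ⟨eA⟩⟩ := Groth.Agent.Lib.CSA.Basic.exists_algEquiv_matrix_of_isSepClosed K AK
  obtain rfl : m = n := by
    have h := eA.toLinearEquiv.finrank_eq
    rw [Module.finrank_baseChange, hA, Module.finrank_matrix] at h
    simp at h
    exact (Nat.pow_left_injective two_ne_zero (a₁ := n) (a₂ := m) (by simpa [sq] using h)).symm
  let uK : BK →ₐ[K] AK := Algebra.TensorProduct.map (AlgHom.id K K) u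
  have huK : Function.Injective uK := by
    have : ⇑uK = u.toLinearMap.lTensor K := by
      funext z
      induction z using TensorProduct.induction_on with
      | zero => simp
      | tmul a b => rfl
      | add a b ha hb => rw [map_add, map_add, ha, hb]
    rw [this]
    exact Module.Flat.lTensor_preserves_injective_linearMap _ hu
  let φ : (Fin m → K) →ₐ[K] Matrix (Fin m) (Fin m) K := (eA.toAlgHom.comp uK).comp eB.symm.toAlgHom
  let z : Fin m → K := eB ((1 : K) ⊗ₜ[k] e)
  have hz : IsIdempotentElem z := by
    change eB _ * eB _ = eB _
    rw [← map_mul, Algebra.TensorProduct.tmul_mul_tmul, one_mul, he.eq]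
  have h := finrank_range_mulRight φ ((eA.injective.comp huK).comp eB.symm.injective) z hz
  have hA' : Module.finrank K (LinearMap.range (LinearMap.mulRight K (φ z))) =
      Module.finrank k (LinearMap.range (LinearMap.mulRight k (u e))) := by
    rw [← finrank_range_baseChange K (LinearMap.mulRight k (u e))]
    have heq : LinearMap.mulRight K (φ z) = eA.toLinearEquiv.toLinearMap ∘ₗ
        (LinearMap.mulRight k (u e)).baseChange K ∘ₗ eA.toLinearEquiv.symm.toLinearMap := by
      refine LinearMap.ext fun x => ?_
      obtain ⟨y, rfl⟩ := eA.surjective x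
      have hφz : φ z = eA ((1 : K) ⊗ₜ[k] u e) := by
        change eA (uK (eB.symm (eB ((1 : K) ⊗ₜ[k] e)))) = _
        rw [AlgEquiv.symm_apply_apply]
        rfl
      have hmul : (LinearMap.mulRight k (u e)).baseChange K y = y * ((1 : K) ⊗ₜ[k] u e) := by
        induction y using TensorProduct.induction_on with
        | zero => simp
        | tmul a b => exact (by rw [LinearMap.baseChange_tmul, LinearMap.mulRight_apply,
            Algebra.TensorProduct.tmul_mul_tmul, mul_one])
        | add a b ha hb => rw [map_add, add_mul, ha, hb]
      simp [hφz, hmul]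
    rw [heq, LinearMap.range_comp, LinearEquiv.finrank_map_eq,
      LinearMap.range_comp_of_range_eq_top _ (LinearEquiv.range _)]
  have hB' : Module.finrank K (LinearMap.range (LinearMap.mulRight K z)) =
      Module.finrank k (LinearMap.range (LinearMap.mulRight k e)) := by
    rw [← finrank_range_baseChange K (LinearMap.mulRight k e)]
    have heq : LinearMap.mulRight K z = eB.toLinearEquiv.toLinearMap ∘ₗ
        (LinearMap.mulRight k e).baseChange K ∘ₗ eB.toLinearEquiv.symm.toLinearMap := by
      refine LinearMap.ext fun x => ?_
      obtain ⟨y, rfl⟩ := eB.surjective x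
      have hmul : (LinearMap.mulRight k e).baseChange K y = y * ((1 : K) ⊗ₜ[k] e) := by
        induction y using TensorProduct.induction_on with
        | zero => simp
        | tmul a b => exact (by rw [LinearMap.baseChange_tmul, LinearMap.mulRight_apply,
            Algebra.TensorProduct.tmul_mul_tmul, mul_one])
        | add a b ha hb => rw [map_add, add_mul, ha, hb]
      simp [z, hmul]
    rw [heq, LinearMap.range_comp, LinearEquiv.finrank_map_eq,
      LinearMap.range_comp_of_range_eq_top _ (LinearEquiv.range _)]
  rw [← hA', ← hB', h]

/-- A central simple algebra of degree `r` is free of rank `r` over an étale subalgebra of dimension `r`. -/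
theorem free_of_etale (u : B →ₐ[k] A) (hu : Function.Injective u) (r : ℕ)
    (hA : Module.finrank k A = r ^ 2) (hB : Module.finrank k B = r) [Module B A]
    (hmod : ∀ (b : B) (a : A), b • a = a * u b) :
    ∃ _ : Module.Free B A, Module.Finite B A ∧ Module.finrank B A = r := by
  have : IsScalarTower k B A := IsScalarTower.of_algebraMap_smul fun c a => by
    rw [hmod, u.commutes, ← Algebra.commutes, Algebra.smul_def]
  have : IsReduced B := Algebra.FormallyUnramified.isReduced_of_field k B
  have : IsArtinianRing B := isArtinian_of_tower k inferInstance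
  have : IsSemisimpleRing B := IsArtinianRing.isSemisimpleRing_of_isReduced B
  have : Module.Finite B A := Module.Finite.of_restrictScalars_finite k B A
  have : Module.Projective B A := Module.projective_of_isSemisimpleRing B A
  have hfree : Module.Free B A := by
    refine Module.free_of_flat_of_finrank_eq (R := B) (M := A) r fun P => ?_
    obtain ⟨e', he', hspan⟩ := IsSemisimpleRing.ideal_eq_span_idempotent P.asIdeal
    let : Field (B ⧸ P.asIdeal) := Ideal.Quotient.field _
    have hP : (P.asIdeal.restrictScalars k) = LinearMap.range (LinearMap.mulRight k e') := by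
      ext x
      rw [Submodule.restrictScalars_mem, hspan, Ideal.mem_span_singleton', LinearMap.mem_range]
      rfl
    have hPA : ((P.asIdeal • ⊤ : Submodule B A).restrictScalars k) = LinearMap.range (LinearMap.mulRight k (u e')) := by
      ext x
      rw [Submodule.restrictScalars_mem, hspan]
      erw [Submodule.ideal_span_singleton_smul, Submodule.mem_smul_pointwise_iff_exists]
      simp [hmod]
    have hq := (TensorProduct.quotTensorEquivQuotSMul A P.asIdeal).restrictScalars k
    have h1 : Module.finrank k ((B ⧸ P.asIdeal) ⊗[B] A) = Module.finrank k (A ⧸ (P.asIdeal • ⊤ : Submodule B A)) :=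
      hq.finrank_eq
    have h2 := Submodule.finrank_quotient_add_finrank ((P.asIdeal • ⊤ : Submodule B A).restrictScalars k)
    have h3 := Submodule.finrank_quotient_add_finrank (P.asIdeal.restrictScalars k)
    rw [(Submodule.Quotient.restrictScalarsEquiv k (P.asIdeal • ⊤ : Submodule B A)).finrank_eq, hPA,
      finrank_range_mulRight_idempotent u hu r hA hB e' he', hA] at h2
    rw [(Submodule.Quotient.restrictScalarsEquiv k P.asIdeal).finrank_eq, hP, hB] at h3
    have h4 := Module.finrank_mul_finrank k (B ⧸ P.asIdeal) ((B ⧸ P.asIdeal) ⊗[B] A)
    set d := Module.finrank k (LinearMap.range (LinearMap.mulRight k e'))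
    set l := Module.finrank k (B ⧸ P.asIdeal)
    have hl : 0 < l := Module.finrank_pos
    have h5 : Module.finrank k (A ⧸ (P.asIdeal • ⊤ : Submodule B A)) = r * l := by
      have : r * (l + d) = r ^ 2 := by rw [h3]; ring
      rw [Nat.mul_add] at this
      omega
    rw [h1, h5, mul_comm r] at h4
    exact Nat.eq_of_mul_eq_mul_left hl h4
  refine ⟨hfree, inferInstance, ?_⟩
  have : Nontrivial B := by
    refine Module.nontrivial_of_finrank_pos (R := k) ?_
    rw [hB]
    refine Nat.pos_of_ne_zero fun h => ?_
    have := Module.finrank_pos (R := k) (M := A)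
    rw [hA, h] at this
    simp at this
  have h4 := Module.finrank_mul_finrank k B A
  rw [hA, hB] at h4
  rcases Nat.eq_zero_or_pos r with h | h
  · subst h
    have := Module.finrank_zero_iff.mp (hA.trans (zero_pow two_ne_zero))
    exact absurd this (not_subsingleton A)
  · exact Nat.eq_of_mul_eq_mul_left h (h4.trans (sq r))

end Groth.Agent.Lib.Azumaya.EtaleFree
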