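import Groth.Agent.Lib.Azumaya.EtaleFree
import Mathlib.RingTheory.Etale.Basic
import Mathlib.LinearAlgebra.TensorProduct.Pi

/-!
# Splitting of an Azumaya algebra over a local ring by a maximal étale subalgebra
-/

open scoped TensorProduct
open MulOpposite

namespace Groth.Agent.Lib.Azumaya.EtaleSplit

universe u

variable {R : Type u} [CommRing R] [IsLocalRing R] {A : Type u} [Ring A] [Algebra R A] [IsAzumaya R A]
variable {E : Type u} [CommRing E] [Algebra R E] [Module.Finite R E] [Module.Free R E]

local notation "k" => IsLocalRing.ResidueField R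

omit [IsAzumaya R A] [Module.Finite R E] [Module.Free R E] in
theorem kmap_apply (u : E →ₐ[R] A) (z : k ⊗[R] E) :
    Algebra.TensorProduct.map (AlgHom.id k k) u z = u.toLinearMap.lTensor k z := by
  induction z using TensorProduct.induction_on with
  | zero => simp
  | tmul a b => rfl
  | add a b ha hb => rw [map_add, map_add, ha, hb]

/-- The image of `E` is its own centralizer. -/
theorem mem_range_of_commute [Algebra.FormallyUnramified R E] (r : ℕ) (hA : Module.finrank R A = r ^ 2)
    (hE : Module.finrank R E = r) (u : E →ₐ[R] A) (hu : Function.Injective (u.toLinearMap.lTensor k))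
    (b : Module.Basis (Fin r) R E) :
    Function.Exact u.toLinearMap
      (LinearMap.pi fun j => LinearMap.mulRight R (u (b j)) - LinearMap.mulLeft R (u (b j))) := by
  classical
  let δ : A →ₗ[R] (Fin r → A) :=
    LinearMap.pi fun j => LinearMap.mulRight R (u (b j)) - LinearMap.mulLeft R (u (b j))
  have : Module.Free R A := Module.free_of_flat_of_isLocalRing
  have hcs := Criterion.central_simple_baseChange A k (R := R)
  have := hcs.1
  have := hcs.2
  obtain ⟨l, hl⟩ := (IsLocalRing.split_injective_iff_lTensor_residueField_injective u.toLinearMap).mpr hu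
  let P := LinearMap.ker l
  have hP : ∀ z : A, (LinearMap.id - u.toLinearMap ∘ₗ l : A →ₗ[R] A) z ∈ P := fun z => by
    have h : l (u (l z)) = l z := LinearMap.congr_fun hl (l z)
    simp [P, h]
  let q : A →ₗ[R] P := LinearMap.codRestrict P (LinearMap.id - u.toLinearMap ∘ₗ l) hP
  have hq : q ∘ₗ P.subtype = LinearMap.id := by
    refine LinearMap.ext fun z => Subtype.ext ?_
    simp [q, LinearMap.mem_ker.mp z.2]
  have : Module.Finite R P := Module.Finite.of_surjective q fun z => ⟨z.1, LinearMap.congr_fun hq z⟩
  let uk := Algebra.TensorProduct.map (AlgHom.id k k) u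
  have huk : Function.Injective uk := fun a b h => hu (by rwa [← kmap_apply, ← kmap_apply])
  have hδinj : Function.Injective ((δ ∘ₗ P.subtype).lTensor k) := by
    rw [injective_iff_map_eq_zero]
    intro z hz
    set w := P.subtype.lTensor k z with hw
    rw [LinearMap.lTensor_comp, LinearMap.comp_apply, ← hw] at hz
    have key : ∀ j, w * ((1 : k) ⊗ₜ[R] u (b j)) = ((1 : k) ⊗ₜ[R] u (b j)) * w := fun j => by
      have h1 := congr_arg ((LinearMap.proj j : (Fin r → A) →ₗ[R] A).lTensor k) hz
      rw [map_zero, ← LinearMap.comp_apply, ← LinearMap.lTensor_comp, LinearMap.proj_pi] at h1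
      have h2 : ∀ w : k ⊗[R] A, (LinearMap.mulRight R (u (b j)) - LinearMap.mulLeft R (u (b j))).lTensor k w =
          w * ((1 : k) ⊗ₜ[R] u (b j)) - ((1 : k) ⊗ₜ[R] u (b j)) * w := fun w => by
        induction w using TensorProduct.induction_on with
        | zero => simp
        | add a b ha hb => rw [map_add, ha, hb, mul_add, add_mul]; abel
        | tmul c a => simp [TensorProduct.tmul_sub]
      rwa [h2, sub_eq_zero] at h1
    have hcomm : ∀ β : k ⊗[R] E, w * uk β = uk β * w := fun β => by
      induction β using TensorProduct.induction_on with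
      | zero => simp
      | add a b ha hb => rw [map_add, mul_add, add_mul, ha, hb]
      | tmul c e =>
        rw [← b.sum_repr e, TensorProduct.tmul_sum, map_sum, Finset.mul_sum, Finset.sum_mul]
        refine Finset.sum_congr rfl fun j _ => ?_
        have hh : uk (c ⊗ₜ[R] (b.repr e j • b j)) = (c * algebraMap R k (b.repr e j)) • ((1 : k) ⊗ₜ[R] u (b j)) := by
          change c ⊗ₜ[R] u (b.repr e j • b j) = _
          rw [map_smul, TensorProduct.tmul_smul, TensorProduct.smul_tmul', TensorProduct.smul_tmul',
            Algebra.smul_def, smul_eq_mul, mul_one, mul_comm]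
        rw [hh, mul_smul_comm, smul_mul_assoc, key]
    have hmem : w ∈ Subalgebra.centralizer k (uk.range : Set (k ⊗[R] A)) := by
      rw [Subalgebra.mem_centralizer_iff]
      rintro _ ⟨β, rfl⟩
      exact (hcomm β).symm
    rw [Etale.centralizer_range_eq uk huk r (by rw [Module.finrank_baseChange, hA])
      (by rw [Module.finrank_baseChange, hE])] at hmem
    obtain ⟨β, hβ : uk β = w⟩ := hmem
    rw [kmap_apply] at hβ
    have hl0 : l.lTensor k w = 0 := by
      have h0 : l ∘ₗ P.subtype = 0 := LinearMap.ext fun z => LinearMap.mem_ker.mp z.2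
      rw [hw, ← LinearMap.comp_apply, ← LinearMap.lTensor_comp, h0, LinearMap.lTensor_zero, LinearMap.zero_apply]
    have hw0 : w = 0 := by
      rw [← hβ, ← LinearMap.comp_apply, ← LinearMap.lTensor_comp, hl, LinearMap.lTensor_id,
        LinearMap.id_apply] at hl0
      rw [← hβ, hl0, map_zero]
    have hz0 := congr_arg (q.lTensor k) hw0
    rwa [hw, map_zero, ← LinearMap.comp_apply, ← LinearMap.lTensor_comp, hq, LinearMap.lTensor_id,
      LinearMap.id_apply] at hz0
  obtain ⟨l', hl'⟩ := (IsLocalRing.split_injective_iff_lTensor_residueField_injective (δ ∘ₗ P.subtype)).mpr hδinj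
  have hrange : ∀ e, δ (u e) = 0 := fun e => funext fun j => by
    simp [δ, ← map_mul, mul_comm e (b j)]
  intro a
  refine ⟨fun ha => ⟨l a, ?_⟩, ?_⟩
  · have h2 : (⟨a - u (l a), by simpa using hP a⟩ : P) = 0 := by
      have := LinearMap.congr_fun hl' ⟨a - u (l a), by simpa using hP a⟩
      simp only [LinearMap.comp_apply, Submodule.subtype_apply, LinearMap.id_apply, map_sub, hrange, sub_zero] at this
      rw [← this, show δ a = 0 from ha, map_zero]
    exact (sub_eq_zero.mp (congr_arg Subtype.val h2)).symm
  · rintro ⟨e, rfl⟩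
    exact hrange e

theorem free_and_split [Algebra.Etale R E] (r : ℕ) (hA : Module.finrank R A = r ^ 2)
    (hE : Module.finrank R E = r) (u : E →ₐ[R] A) (hu : Function.Injective (u.toLinearMap.lTensor k))
    [Module E A] (hmod : ∀ (e : E) (a : A), e • a = a * u e) :
    Module.Free E A ∧ Module.finrank E A = r ∧ Nonempty ((E ⊗[R] A) ≃ₐ[E] Module.End E A) := by
  classical
  have : Module.Free R A := Module.free_of_flat_of_isLocalRing
  have hcs := Criterion.central_simple_baseChange A k (R := R)
  have := hcs.1
  have := hcs.2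
  have : IsScalarTower R E A := IsScalarTower.of_algebraMap_smul fun c a => by
    rw [hmod, u.commutes, ← Algebra.commutes, Algebra.smul_def]
  have : Nontrivial A := by
    refine (subsingleton_or_nontrivial A).resolve_left fun h => ?_
    have h01 : (1 : k ⊗[R] A) = 0 := by
      rw [Algebra.TensorProduct.one_def, Subsingleton.elim (1 : A) 0, TensorProduct.tmul_zero]
    exact one_ne_zero h01
  have hr : r ≠ 0 := fun h => by
    have h0 : Module.finrank R A = 0 := by rw [hA, h, zero_pow two_ne_zero]
    have : Subsingleton A := ((Module.finBasis R A).reindex (finCongr h0)).repr.toEquiv.subsingleton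
    exact false_of_nontrivial_of_subsingleton A
  have : Nontrivial E := Module.nontrivial_of_finrank_pos (R := R) (by rw [hE]; omega)
  -- the special fibre
  let uk := Algebra.TensorProduct.map (AlgHom.id k k) u
  have huk : Function.Injective uk := fun a b h => hu (by rwa [← kmap_apply, ← kmap_apply])
  let ρ : k ⊗[R] E →+* (k ⊗[R] A)ᵐᵒᵖ := uk.toRingHom.toOpposite fun x y => by
    change uk x * uk y = uk y * uk x
    rw [← map_mul, ← map_mul, mul_comm]
  letI : Module (k ⊗[R] E) (k ⊗[R] A) := Module.compHom _ ρ
  obtain ⟨hfree, hfin, hrk⟩ := EtaleFree.free_of_etale uk huk r (by rw [Module.finrank_baseChange, hA])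
    (by rw [Module.finrank_baseChange, hE]) (fun _ _ => rfl)
  have : Nontrivial (k ⊗[R] E) := Module.nontrivial_of_finrank_pos (R := k) (by rw [Module.finrank_baseChange, hE]; omega)
  let bb := (Module.finBasis (k ⊗[R] E) (k ⊗[R] A)).reindex (finCongr hrk)
  choose a ha using fun j => TensorProduct.mk_surjective R A k Ideal.Quotient.mk_surjective (bb j)
  let Φ : (Fin r → E) →ₗ[E] A := Fintype.linearCombination E a
  have hs : Function.Surjective (Φ.restrictScalars R) := by
    rw [← LinearMap.range_eq_top, ← IsLocalRing.map_tensorProduct_mk_eq_top, eq_top_iff]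
    intro z _
    choose β hβ using fun j => TensorProduct.mk_surjective R E k Ideal.Quotient.mk_surjective (bb.repr z j)
    refine ⟨Φ β, ⟨β, rfl⟩, ?_⟩
    rw [← bb.sum_repr z]
    simp only [Φ, Fintype.linearCombination_apply, map_sum]
    refine Finset.sum_congr rfl fun j _ => ?_
    rw [← hβ j, ← ha j, hmod]
    change _ = ((1 : k) ⊗ₜ[R] a j) * uk ((1 : k) ⊗ₜ[R] β j)
    change _ = ((1 : k) ⊗ₜ[R] a j) * ((1 : k) ⊗ₜ[R] u (β j))
    rw [Algebra.TensorProduct.tmul_mul_tmul, one_mul]
    rfl
  have hi : Function.Injective (Φ.restrictScalars R) := by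
    let e : A ≃ₗ[R] (Fin r → E) := LinearEquiv.ofFinrankEq A (Fin r → E) (by
      rw [hA, Module.finrank_pi_fintype]; simp [hE, sq])
    have := OrzechProperty.injective_of_surjective_endomorphism (e.toLinearMap ∘ₗ Φ.restrictScalars R)
      (e.surjective.comp hs)
    exact Function.Injective.of_comp (f := ⇑e.toLinearMap) this
  let bE : Module.Basis (Fin r) E A := Module.Basis.ofEquivFun (LinearEquiv.ofBijective Φ ⟨hi, hs⟩).symm
  have hfreeE : Module.Free E A := Module.Free.of_basis bE
  have hfinE : Module.Finite E A := Module.Finite.of_basis bE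
  have hrkE : Module.finrank E A = r := by rw [Module.finrank_eq_card_basis bE, Fintype.card_fin]
  refine ⟨hfreeE, hrkE, ?_⟩
  let g : A →ₐ[R] Module.End E A :=
    { toFun := fun a =>
        { toFun := fun y => a * y
          map_add' := mul_add a
          map_smul' := fun e y => by rw [RingHom.id_apply, hmod, hmod, mul_assoc] }
      map_one' := LinearMap.ext one_mul
      map_mul' := fun a b => LinearMap.ext fun y => mul_assoc a b y
      map_zero' := LinearMap.ext zero_mul
      map_add' := fun a b => LinearMap.ext fun y => add_mul a b y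
      commutes' := fun c => LinearMap.ext fun y => by
        change algebraMap R A c * y = _
        rw [Module.algebraMap_end_apply, Algebra.smul_def] }
  let φ : E ⊗[R] A →ₐ[E] Module.End E A :=
    Algebra.TensorProduct.lift (Algebra.ofId E (Module.End E A)) g fun e a =>
      (Algebra.commute_algebraMap_left e (g a))
  have hφ : ∀ e a y, φ (e ⊗ₜ a) y = a * y * u e := fun e a y => by
    change (algebraMap E (Module.End E A) e * g a) y = _
    rw [Module.End.mul_apply, Module.algebraMap_end_apply, hmod]
    rfl
  let bR := (Module.finBasis R E).reindex (finCongr hE)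
  have hexact := mem_range_of_commute r hA hE u hu bR
  set δ : A →ₗ[R] (Fin r → A) :=
    LinearMap.pi fun j => LinearMap.mulRight R (u (bR j)) - LinearMap.mulLeft R (u (bR j))
  have hsurj : Function.Surjective φ := by
    intro f
    obtain ⟨z, hz⟩ := (IsAzumaya.bij (R := R) (A := A)).2 (f.restrictScalars R)
    have hcomm : ∀ j, z * ((1 : A) ⊗ₜ[R] op (u (bR j))) = ((1 : A) ⊗ₜ[R] op (u (bR j))) * z := by
      intro j
      apply (IsAzumaya.bij (R := R) (A := A)).1
      rw [map_mul, map_mul, hz]
      refine LinearMap.ext fun y => ?_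
      simp only [Module.End.mul_apply, AlgHom.mulLeftRight_apply, unop_op, LinearMap.coe_restrictScalars, one_mul,
        ← hmod, map_smul]
    let δ' : Aᵐᵒᵖ →ₗ[R] (Fin r → A) := δ ∘ₗ (opLinearEquiv R (M := A)).symm.toLinearMap
    have hzero : δ'.lTensor A z = 0 := by
      apply (TensorProduct.piRight R R A (fun _ : Fin r => A)).injective
      rw [map_zero]
      funext j
      have key : ∀ z : A ⊗[R] Aᵐᵒᵖ, TensorProduct.piRight R R A (fun _ : Fin r => A) (δ'.lTensor A z) j =
          (opLinearEquiv R (M := A)).symm.toLinearMap.lTensor A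
            (((1 : A) ⊗ₜ[R] op (u (bR j))) * z - z * ((1 : A) ⊗ₜ[R] op (u (bR j)))) := fun z => by
        induction z using TensorProduct.induction_on with
        | zero => simp
        | add a b ha hb =>
          rw [mul_add, add_mul, map_add, map_add, Pi.add_apply, ha, hb, ← map_add]
          congr 1; abel
        | tmul a b =>
          induction b using MulOpposite.rec' with
          | _ b => simp [δ', δ, TensorProduct.tmul_sub, ← op_mul]
      rw [key, ← hcomm, sub_self, map_zero, Pi.zero_apply]
    have hex' : Function.Exact ((opLinearEquiv R (M := A)).toLinearMap ∘ₗ u.toLinearMap) δ' := by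
      intro x
      obtain ⟨x, rfl⟩ := (opLinearEquiv R (M := A)).surjective x
      refine (hexact x).trans ⟨?_, ?_⟩
      · rintro ⟨e, rfl⟩; exact ⟨e, rfl⟩
      · rintro ⟨e, he⟩; exact ⟨e, (opLinearEquiv R (M := A)).injective he⟩
    obtain ⟨q, hq⟩ := (Module.Flat.lTensor_exact A hex' z).mp hzero
    refine ⟨TensorProduct.comm R A E q, LinearMap.ext fun y => ?_⟩
    have key : ∀ q : A ⊗[R] E, φ (TensorProduct.comm R A E q) y = AlgHom.mulLeftRight R A
        (((opLinearEquiv R (M := A)).toLinearMap ∘ₗ u.toLinearMap).lTensor A q) y := fun q => by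
      induction q using TensorProduct.induction_on with
      | zero => simp
      | add a b ha hb => simp only [map_add, LinearMap.add_apply, ha, hb]
      | tmul a e => simp [hφ]
    rw [key, hq, hz, LinearMap.coe_restrictScalars]
  refine ⟨AlgEquiv.ofBijective φ ⟨?_, hsurj⟩⟩
  let e : Module.End E A ≃ₗ[E] E ⊗[R] A := LinearEquiv.ofFinrankEq _ _ (by
    rw [Module.finrank_linearMap, hrkE, Module.finrank_baseChange, hA, sq])
  have h := OrzechProperty.injective_of_surjective_endomorphism (e.toLinearMap ∘ₗ φ.toLinearMap)
    (e.surjective.comp hsurj)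
  exact Function.Injective.of_comp (f := ⇑e.toLinearMap) h

end Groth.Agent.Lib.Azumaya.EtaleSplit
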