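import Groth.Agent.Lib.Azumaya.RegularExists
import Mathlib.RingTheory.AdjoinRoot
import Mathlib.RingTheory.Smooth.Fiber
import Mathlib.RingTheory.Ideal.GoingUp
import Mathlib.RingTheory.Finiteness.Descent

/-!
# Maximal étale subalgebras of Azumaya algebras over a local ring
-/

open scoped TensorProduct

namespace Groth.Agent.Lib.Azumaya.EtaleSub

universe u v

open Polynomial

variable {R : Type u} [CommRing R] [IsLocalRing R]

theorem etale_adjoinRoot {f : R[X]} (hf : f.Monic) (hsep : (f.map (IsLocalRing.residue R)).Separable) :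
    Algebra.Etale R (AdjoinRoot f) := by
  have : Module.Free R (AdjoinRoot f) := Module.Free.of_basis (AdjoinRoot.powerBasis' hf).basis
  have : Module.Finite R (AdjoinRoot f) := Module.Finite.of_basis (AdjoinRoot.powerBasis' hf).basis
  have : Algebra.IsIntegral R (AdjoinRoot f) := Algebra.IsIntegral.of_finite R _
  obtain ⟨a, b, hab⟩ := hsep
  obtain ⟨a, rfl⟩ := Polynomial.map_surjective _ IsLocalRing.residue_surjective a
  obtain ⟨b, rfl⟩ := Polynomial.map_surjective _ IsLocalRing.residue_surjective b
  set r := AdjoinRoot.root f with hr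
  have hu : IsUnit (aeval r (derivative f)) := by
    refine (isUnit_of_mul_isUnit_right (x := aeval r b) ?_)
    by_contra hnu
    obtain ⟨M, hM, hmem⟩ := exists_max_ideal_of_mem_nonunits hnu
    have hMR : M.comap (algebraMap R (AdjoinRoot f)) = IsLocalRing.maximalIdeal R :=
      IsLocalRing.eq_maximalIdeal (Ideal.isMaximal_comap_of_isIntegral_of_isMaximal M)
    apply hM.ne_top
    rw [Ideal.eq_top_iff_one]
    have h : aeval r (a * f + b * derivative f - 1) ∈ M := by
      rw [Polynomial.aeval_eq_sum_range]
      refine Ideal.sum_mem _ fun i _ => ?_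
      rw [Algebra.smul_def]
      refine Ideal.mul_mem_right _ _ ?_
      rw [← Ideal.mem_comap, hMR, ← IsLocalRing.residue_eq_zero_iff, ← Polynomial.coeff_map,
        Polynomial.map_sub, Polynomial.map_add, Polynomial.map_mul, Polynomial.map_mul, ← Polynomial.derivative_map,
        hab, Polynomial.map_one, sub_self, Polynomial.coeff_zero]
    simp only [map_sub, map_add, map_mul, map_one, hr, AdjoinRoot.aeval_eq f, AdjoinRoot.mk_self, mul_zero,
      zero_add] at h
    have := M.sub_mem hmem h
    simpa [hr, AdjoinRoot.aeval_eq] using this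
  have : Algebra.FormallyUnramified R (AdjoinRoot f) := by
    refine ⟨subsingleton_of_forall_eq 0 fun z => ?_⟩
    have hD : KaehlerDifferential.D R (AdjoinRoot f) r = 0 := by
      have h0 := congr_arg (KaehlerDifferential.D R (AdjoinRoot f))
        (show aeval r f = 0 by rw [hr, AdjoinRoot.aeval_eq, AdjoinRoot.mk_self])
      rw [Derivation.map_aeval, map_zero] at h0
      exact hu.smul_eq_zero.mp h0
    have hz : z ∈ Submodule.span (AdjoinRoot f) (Set.range (KaehlerDifferential.D R (AdjoinRoot f))) := by
      rw [KaehlerDifferential.span_range_derivation]; trivial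
    induction hz using Submodule.span_induction with
    | mem z hz =>
      obtain ⟨x, rfl⟩ := hz
      obtain ⟨p, rfl⟩ := AdjoinRoot.mk_surjective x
      rw [← AdjoinRoot.aeval_eq, ← hr, Derivation.map_aeval, hD, smul_zero]
    | zero => rfl
    | add y z _ _ hy hz => rw [hy, hz, add_zero]
    | smul a y _ hy => rw [hy, smul_zero]
  have : Algebra.FinitePresentation R (AdjoinRoot f) := by
    infer_instance
  exact Algebra.Etale.of_formallyUnramified_of_flat

/-- Existence of a maximal étale subalgebra over a local ring. -/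
theorem exists_etale_subalgebra (A : Type u) [Ring A] [Algebra R A] [IsAzumaya R A] (r : ℕ)
    (hA : Module.finrank R A = r ^ 2) :
    ∃ (E : Type u) (_ : CommRing E) (_ : Algebra R E), Algebra.Etale R E ∧ Module.Finite R E ∧
      Module.Free R E ∧ Module.finrank R E = r ∧
      ∃ u : E →ₐ[R] A, Function.Injective (u.toLinearMap.lTensor (IsLocalRing.ResidueField R)) := by
  classical
  let k := IsLocalRing.ResidueField R
  have : Module.Free R A := Module.free_of_flat_of_isLocalRing
  have hcs := Criterion.central_simple_baseChange A k (R := R)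
  have := hcs.1
  have := hcs.2
  obtain ⟨x, hsep, hrk⟩ := RegularExists.exists_regular (k := k) (A := k ⊗[R] A) r
    (by rw [Module.finrank_baseChange, hA])
  obtain ⟨ξ, rfl⟩ := TensorProduct.mk_surjective R A k Ideal.Quotient.mk_surjective x
  simp only [TensorProduct.mk_apply] at hsep hrk
  set x := (1 : k) ⊗ₜ[R] ξ with hx
  have hpow : ξ ^ r ∈ Submodule.span R (Set.range fun i : Fin r => ξ ^ (i : ℕ)) :=
    (Regular.powers_basis r hA ξ hsep hrk).2 _ (by rw [← pow_succ', ← pow_succ])
  obtain ⟨c, hc⟩ := (Submodule.mem_span_range_iff_exists_fun R).mp hpow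
  let f : R[X] := X ^ r - ∑ i : Fin r, Polynomial.C (c i) * X ^ (i : ℕ)
  have hdeg : (∑ i : Fin r, Polynomial.C (c i) * X ^ (i : ℕ)).degree < (r : WithBot ℕ) := Polynomial.degree_sum_fin_lt c
  have hf : f.Monic := Polynomial.monic_X_pow_sub hdeg
  have hfdeg : f.natDegree = r := Polynomial.natDegree_eq_of_degree_eq_some (by
    rw [Polynomial.degree_sub_eq_left_of_degree_lt (by rwa [Polynomial.degree_X_pow]), Polynomial.degree_X_pow])
  have hfξ : aeval ξ f = 0 := by
    simp [f, ← hc, Algebra.smul_def]
  have hfx : aeval x (f.map (IsLocalRing.residue R)) = 0 := by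
    rw [← IsLocalRing.ResidueField.algebraMap_eq, Polynomial.aeval_map_algebraMap, hx,
      show (1 : k) ⊗ₜ[R] ξ = (Algebra.TensorProduct.includeRight : A →ₐ[R] k ⊗[R] A) ξ from rfl,
      Polynomial.aeval_algHom_apply, hfξ, map_zero]
  have hmin : f.map (IsLocalRing.residue R) = minpoly k x := by
    refine Polynomial.eq_of_monic_of_dvd_of_natDegree_le (minpoly.monic (Algebra.IsIntegral.isIntegral x))
      (hf.map _) (minpoly.dvd k x hfx) ?_
    rw [hf.natDegree_map, hfdeg]
    exact hrk.ge.trans (Regular.finrank_adjoin_eq_natDegree x).le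
  have hsepf : (f.map (IsLocalRing.residue R)).Separable := by
    have : Algebra.IsSeparable k (Algebra.adjoin k ({x} : Set (k ⊗[R] A))) := hsep
    have h1 : IsSeparable k (⟨x, Algebra.self_mem_adjoin_singleton k x⟩ : Algebra.adjoin k ({x} : Set (k ⊗[R] A))) :=
      Algebra.IsSeparable.isSeparable k _
    unfold IsSeparable at h1
    rw [hmin]
    rwa [← minpoly.algHom_eq (Algebra.adjoin k ({x} : Set (k ⊗[R] A))).val Subtype.val_injective] at h1
  have het := etale_adjoinRoot hf hsepf
  let pb := AdjoinRoot.powerBasis' hf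
  let u : AdjoinRoot f →ₐ[R] A := Ideal.Quotient.liftₐ _ (aeval ξ) fun p hp => by
    obtain ⟨q, rfl⟩ := Ideal.mem_span_singleton.mp hp
    rw [map_mul, hfξ, zero_mul]
  have hfin : Module.finrank R (AdjoinRoot f) = r := by
    rw [Module.finrank_eq_card_basis pb.basis, Fintype.card_fin, AdjoinRoot.powerBasis'_dim, hfdeg]
  refine ⟨AdjoinRoot f, inferInstance, inferInstance, het, Module.Finite.of_basis pb.basis,
    Module.Free.of_basis pb.basis, hfin, u, ?_⟩
  have hli := (Regular.span_pow_of_finrank x hrk).1
  have hdim : pb.dim = r := by rw [AdjoinRoot.powerBasis'_dim, hfdeg]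
  have hli' : LinearIndependent k fun i : Fin pb.dim => x ^ (i : ℕ) :=
    (hli.comp (finCongr hdim) (finCongr hdim).injective :)
  let bk := pb.basis.baseChange k
  have himg : ∀ i, (u.toLinearMap.baseChange k) (bk i) = x ^ (i : ℕ) := fun i => by
    have : u pb.gen = ξ := by
      change u (AdjoinRoot.root f) = ξ
      exact Polynomial.aeval_X ξ
    simp [bk, pb.basis_eq_pow, this, hx, Algebra.TensorProduct.tmul_pow]
  have hinj : Function.Injective (u.toLinearMap.baseChange k) := by
    rw [← LinearMap.ker_eq_bot]
    refine LinearMap.ker_eq_bot'.mpr fun z hz => ?_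
    rw [← bk.sum_repr z, map_sum] at hz
    simp only [map_smul, himg] at hz
    have h0 := Fintype.linearIndependent_iff.mp hli' _ hz
    rw [← bk.sum_repr z]
    exact Finset.sum_eq_zero fun i _ => by rw [h0 i, zero_smul]
  rwa [LinearMap.baseChange_eq_ltensor] at hinj

end Groth.Agent.Lib.Azumaya.EtaleSub
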