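import Groth.Agent.Lib.Azumaya.Etale
import Mathlib.RingTheory.PowerBasis
import Mathlib.RingTheory.Adjoin.Polynomial.Basic
import Mathlib.RingTheory.LocalRing.Module

/-!
# Regular sections of Azumaya algebras over a local ring
-/

open scoped TensorProduct

namespace Groth.Agent.Lib.Azumaya.Regular

universe u v

section Field

variable {k : Type u} [Field k] {A : Type v} [Ring A] [Algebra k A] [FiniteDimensional k A]

theorem span_pow_eq_adjoin (x : A) :
    Submodule.span k (Set.range fun i : Fin (minpoly k x).natDegree => x ^ (i : ℕ)) =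
      Subalgebra.toSubmodule (Algebra.adjoin k ({x} : Set A)) := by
  refine le_antisymm (Submodule.span_le.mpr ?_) fun y hy => ?_
  · rintro _ ⟨i, rfl⟩
    exact Subalgebra.pow_mem _ (Algebra.self_mem_adjoin_singleton k x) _
  · rw [Subalgebra.mem_toSubmodule, Algebra.adjoin_singleton_eq_range_aeval] at hy
    obtain ⟨p, rfl⟩ := hy
    change Polynomial.aeval x p ∈ _
    rw [← minpoly.aeval_modByMonic_minpoly]
    by_cases h0 : p %ₘ minpoly k x = 0
    · rw [h0, map_zero]; exact Submodule.zero_mem _
    rw [Polynomial.aeval_eq_sum_range' (n := (minpoly k x).natDegree)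
      (Polynomial.natDegree_lt_natDegree h0 (Polynomial.degree_modByMonic_lt _ (minpoly.monic (Algebra.IsIntegral.isIntegral x))))]
    exact Submodule.sum_mem _ fun i hi => Submodule.smul_mem _ _
      (Submodule.subset_span ⟨⟨i, Finset.mem_range.mp hi⟩, rfl⟩)

theorem finrank_adjoin_eq_natDegree (x : A) :
    Module.finrank k (Algebra.adjoin k ({x} : Set A)) = (minpoly k x).natDegree := by
  rw [← Subalgebra.finrank_toSubmodule, ← span_pow_eq_adjoin,
    finrank_span_eq_card (linearIndependent_pow x), Fintype.card_fin]

theorem span_pow_of_finrank (x : A) {r : ℕ} (h : Module.finrank k (Algebra.adjoin k ({x} : Set A)) = r) :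
    LinearIndependent k (fun i : Fin r => x ^ (i : ℕ)) ∧
      Submodule.span k (Set.range fun i : Fin r => x ^ (i : ℕ)) =
        Subalgebra.toSubmodule (Algebra.adjoin k ({x} : Set A)) := by
  rw [finrank_adjoin_eq_natDegree] at h
  subst h
  exact ⟨linearIndependent_pow x, span_pow_eq_adjoin x⟩

theorem mem_adjoin_of_commute [Algebra.IsCentral k A] [IsSimpleRing A] (x : A) {r : ℕ}
    (hA : Module.finrank k A = r ^ 2) (hsep : Algebra.IsSeparable k (Algebra.adjoin k ({x} : Set A)))
    (hr : Module.finrank k (Algebra.adjoin k ({x} : Set A)) = r) {y : A} (hy : x * y = y * x) :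
    y ∈ Algebra.adjoin k ({x} : Set A) := by
  let S := Algebra.adjoin k ({x} : Set A)
  let : CommRing S := { (inferInstance : Ring S) with
    mul_comm := fun a b => Subtype.ext (by
      obtain ⟨p, hp⟩ := (Algebra.adjoin_singleton_eq_range_aeval k x).le a.2
      obtain ⟨q, hq⟩ := (Algebra.adjoin_singleton_eq_range_aeval k x).le b.2
      change (a : A) * b = b * a
      rw [← hp, ← hq]
      change Polynomial.aeval x p * Polynomial.aeval x q = Polynomial.aeval x q * Polynomial.aeval x p
      rw [← map_mul, ← map_mul, mul_comm]) }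
  have : Algebra.FormallyUnramified k S := Etale.formallyUnramified_of_isSeparable k S
  have h := Etale.centralizer_range_eq S.val Subtype.val_injective r hA hr
  rw [Subalgebra.range_val] at h
  change y ∈ S
  rw [← h, Subalgebra.mem_centralizer_iff]
  intro z hz
  have hle : S ≤ Subalgebra.centralizer k ({y} : Set A) := Algebra.adjoin_le fun w hw => by
    rw [Set.mem_singleton_iff.mp hw, SetLike.mem_coe, Subalgebra.mem_centralizer_iff]
    rintro _ rfl
    exact hy.symm
  exact ((Subalgebra.mem_centralizer_iff k).mp (hle hz) y rfl).symm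

end Field

variable {R : Type u} [CommRing R] [IsLocalRing R] {A : Type v} [Ring A] [Algebra R A] [IsAzumaya R A]

/-- The powers of a regular section form a basis of a free summand, stable under multiplication. -/
theorem powers_basis (r : ℕ) (hA : Module.finrank R A = r ^ 2) (ξ : A)
    (hsep : Algebra.IsSeparable (IsLocalRing.ResidueField R)
      (Algebra.adjoin (IsLocalRing.ResidueField R)
        ({(1 : IsLocalRing.ResidueField R) ⊗ₜ[R] ξ} : Set (IsLocalRing.ResidueField R ⊗[R] A))))
    (hrk : Module.finrank (IsLocalRing.ResidueField R) (Algebra.adjoin (IsLocalRing.ResidueField R)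
        ({(1 : IsLocalRing.ResidueField R) ⊗ₜ[R] ξ} : Set (IsLocalRing.ResidueField R ⊗[R] A))) = r) :
    LinearIndependent R (fun i : Fin r => ξ ^ (i : ℕ)) ∧
      (∀ y, ξ * y = y * ξ → y ∈ Submodule.span R (Set.range fun i : Fin r => ξ ^ (i : ℕ))) := by
  classical
  let k := IsLocalRing.ResidueField R
  have : Module.Free R A := Module.free_of_flat_of_isLocalRing
  have hcs := Criterion.central_simple_baseChange A k (R := R)
  have := hcs.1
  have := hcs.2
  have hAk : Module.finrank k (k ⊗[R] A) = r ^ 2 := by rw [Module.finrank_baseChange, hA]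
  set x := (1 : k) ⊗ₜ[R] ξ with hx
  obtain ⟨hli, hspan⟩ := span_pow_of_finrank x hrk
  let pw : (Fin r → R) →ₗ[R] A := Fintype.linearCombination R fun i : Fin r => ξ ^ (i : ℕ)
  have hpow : ∀ i : ℕ, (1 : k) ⊗ₜ[R] (ξ ^ i) = x ^ i := fun i => by
    rw [hx, Algebra.TensorProduct.tmul_pow, one_pow]
  let pwk : (Fin r → k) →ₗ[k] k ⊗[R] A := Fintype.linearCombination k fun i : Fin r => x ^ (i : ℕ)
  have hpwk : ∀ z : k ⊗[R] (Fin r → R), pw.lTensor k z =
      pwk (TensorProduct.piScalarRight R k k (Fin r) z) := fun z => by
    induction z using TensorProduct.induction_on with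
    | zero => simp
    | add a b ha hb => simp only [map_add, ha, hb]
    | tmul c w =>
      simp only [pw, pwk, LinearMap.lTensor_tmul, Fintype.linearCombination_apply, TensorProduct.tmul_sum,
        TensorProduct.piScalarRight_apply, TensorProduct.piScalarRightHom_tmul]
      refine Finset.sum_congr rfl fun i _ => ?_
      rw [← hpow, TensorProduct.smul_tmul', TensorProduct.tmul_smul, TensorProduct.smul_tmul']
      simp [Algebra.smul_def, mul_comm]
  have hinj : Function.Injective (pw.lTensor k) := fun a b hab => by
    rw [hpwk, hpwk] at hab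
    exact (TensorProduct.piScalarRight R k k (Fin r)).injective (hli.fintypeLinearCombination_injective hab)
  obtain ⟨l, hl⟩ := (IsLocalRing.split_injective_iff_lTensor_residueField_injective pw).mpr hinj
  have hpwinj : Function.Injective pw := LinearMap.injective_of_comp_eq_id _ _ hl
  refine ⟨Fintype.linearIndependent_iffₛ.mpr fun f g hfg i =>
    congr_fun (hpwinj (by simpa [pw, Fintype.linearCombination_apply] using hfg)) i, fun y hy => ?_⟩
  let P := LinearMap.ker l
  have hP : ∀ z : A, (LinearMap.id - pw ∘ₗ l : A →ₗ[R] A) z ∈ P := fun z => by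
    have h : l (pw (l z)) = l z := LinearMap.congr_fun hl (l z)
    simp [P, h]
  let q : A →ₗ[R] P := LinearMap.codRestrict P (LinearMap.id - pw ∘ₗ l) hP
  have hq : q ∘ₗ P.subtype = LinearMap.id := by
    refine LinearMap.ext fun z => Subtype.ext ?_
    simp [q, LinearMap.mem_ker.mp z.2]
  have : Module.Finite R P := Module.Finite.of_surjective q fun z => ⟨z.1, LinearMap.congr_fun hq z⟩
  let ad : A →ₗ[R] A := LinearMap.mulLeft R ξ - LinearMap.mulRight R ξ
  have hadinj : Function.Injective ((ad ∘ₗ P.subtype).lTensor k) := by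
    rw [injective_iff_map_eq_zero]
    intro z hz
    set w := P.subtype.lTensor k z with hw
    have hwcomm : x * w = w * x := by
      rw [LinearMap.lTensor_comp, LinearMap.comp_apply, ← hw] at hz
      have key : ∀ w : k ⊗[R] A, ad.lTensor k w = x * w - w * x := fun w => by
        induction w using TensorProduct.induction_on with
        | zero => simp
        | add a b ha hb => rw [map_add, ha, hb, mul_add, add_mul]; abel
        | tmul c a => simp [ad, hx, TensorProduct.tmul_sub]
      rw [key, sub_eq_zero] at hz
      exact hz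
    have hwmem := mem_adjoin_of_commute x hAk hsep hrk hwcomm
    rw [← Subalgebra.mem_toSubmodule, ← hspan] at hwmem
    obtain ⟨c, hc⟩ := (Submodule.mem_span_range_iff_exists_fun k).mp hwmem
    have hw' : w = pw.lTensor k ((TensorProduct.piScalarRight R k k (Fin r)).symm c) := by
      rw [hpwk, LinearEquiv.apply_symm_apply, ← hc]
      simp [pwk, Fintype.linearCombination_apply]
    have hl0 : l.lTensor k w = 0 := by
      have h0 : l ∘ₗ P.subtype = 0 := LinearMap.ext fun z => LinearMap.mem_ker.mp z.2
      rw [hw, ← LinearMap.comp_apply, ← LinearMap.lTensor_comp, h0, LinearMap.lTensor_zero, LinearMap.zero_apply]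
    have hw0 : w = 0 := by
      rw [hw', ← LinearMap.comp_apply, ← LinearMap.lTensor_comp, hl, LinearMap.lTensor_id, LinearMap.id_apply] at hl0
      rw [hw', hl0, map_zero]
    have hz0 := congr_arg (q.lTensor k) hw0
    rwa [hw, map_zero, ← LinearMap.comp_apply, ← LinearMap.lTensor_comp, hq, LinearMap.lTensor_id,
      LinearMap.id_apply] at hz0
  obtain ⟨l', hl'⟩ := (IsLocalRing.split_injective_iff_lTensor_residueField_injective (ad ∘ₗ P.subtype)).mpr hadinj
  have hmem : y - pw (l y) ∈ P := by
    rw [LinearMap.mem_ker, map_sub, ← LinearMap.comp_apply, hl, LinearMap.id_apply, sub_self]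
  have had0 : ∀ i : ℕ, ad (ξ ^ i) = 0 := fun i => by
    simp [ad, ← pow_succ, ← pow_succ']
  have h1 : ad (pw (l y)) = 0 := by
    rw [Fintype.linearCombination_apply, map_sum]
    exact Finset.sum_eq_zero fun i _ => by rw [map_smul, had0, smul_zero]
  have h2 : (⟨y - pw (l y), hmem⟩ : P) = 0 := by
    have := LinearMap.congr_fun hl' ⟨y - pw (l y), hmem⟩
    simp only [LinearMap.comp_apply, Submodule.subtype_apply, LinearMap.id_apply, map_sub, h1, sub_zero] at this
    rw [← this, show ad y = 0 from sub_eq_zero.mpr hy, map_zero]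
  rw [sub_eq_zero.mp (congr_arg Subtype.val h2), Submodule.mem_span_range_iff_exists_fun]
  exact ⟨l y, (Fintype.linearCombination_apply R _ _).symm⟩

end Groth.Agent.Lib.Azumaya.Regular
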