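import Groth.Agent.Lib.Azumaya.Regular
import Groth.Agent.Lib.CSA.Division
import Mathlib.FieldTheory.Finite.Extension
import Mathlib.FieldTheory.PrimitiveElement
import Mathlib.RingTheory.LittleWedderburn
import Mathlib.Data.Matrix.Basic
import Mathlib.Algebra.Algebra.Pi
import Mathlib.LinearAlgebra.Matrix.ToLin

/-!
# Existence of regular elements in central simple algebras
-/

namespace Groth.Agent.Lib.Azumaya.RegularExists

universe u v

open Polynomial

variable {k : Type u} [Field k] {A : Type v} [Ring A] [Algebra k A] [FiniteDimensional k A]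

theorem regular_of_hom {B : Type*} [CommRing B] [Algebra k B] [Module.Finite k B]
    [Algebra.IsSeparable k B] (u : B →ₐ[k] A) (hu : Function.Injective u) (z : B) :
    Algebra.IsSeparable k (Algebra.adjoin k ({u z} : Set A)) ∧
      Module.finrank k (Algebra.adjoin k ({u z} : Set A)) = (minpoly k z).natDegree := by
  refine ⟨⟨fun y => ?_⟩, ?_⟩
  · have hle : Algebra.adjoin k ({u z} : Set A) ≤ u.range := Algebra.adjoin_le fun w hw => ⟨z, (Set.mem_singleton_iff.mp hw).symm⟩
    obtain ⟨b, hb⟩ := hle y.2
    have h1 : IsSeparable k b := Algebra.IsSeparable.isSeparable k b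
    unfold IsSeparable at h1 ⊢
    rw [← minpoly.algHom_eq (Algebra.adjoin k ({u z} : Set A)).val Subtype.val_injective y,
      Subalgebra.val_apply, ← hb]
    change (minpoly k (u b)).Separable
    rwa [minpoly.algHom_eq u hu b]
  · rw [Regular.finrank_adjoin_eq_natDegree, minpoly.algHom_eq u hu]

theorem minpoly_pi {L : Type*} [Field L] [Algebra k L] [FiniteDimensional k L] [Algebra.IsSeparable k L]
    {n : ℕ} (θ : Fin n → L) (hinj : Function.Injective fun i => minpoly k (θ i)) :
    (minpoly k (θ : Fin n → L)).natDegree = ∑ i, (minpoly k (θ i)).natDegree := by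
  classical
  have hev : ∀ (p : k[X]) (i : Fin n), aeval θ p i = aeval (θ i) p := fun p i =>
    (aeval_algHom_apply (Pi.evalAlgHom k (fun _ : Fin n => L) i) θ p).symm
  have hmon : (∏ i, minpoly k (θ i)).Monic :=
    monic_prod_of_monic _ _ fun i _ => minpoly.monic (Algebra.IsIntegral.isIntegral _)
  have h : minpoly k θ = ∏ i, minpoly k (θ i) := by
    refine eq_of_monic_of_associated (minpoly.monic (Algebra.IsIntegral.isIntegral _)) hmon
      (associated_of_dvd_dvd (minpoly.dvd k θ ?_) (Finset.prod_dvd_of_coprime ?_ fun i _ => minpoly.dvd k _ ?_))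
    · funext i
      rw [hev, map_prod]
      exact Finset.prod_eq_zero (Finset.mem_univ i) (minpoly.aeval k _)
    · intro i _ j _ hij
      refine ((minpoly.irreducible (Algebra.IsIntegral.isIntegral _)).coprime_iff_not_dvd).mpr fun hdvd => ?_
      exact hij (hinj (eq_of_monic_of_associated (minpoly.monic (Algebra.IsIntegral.isIntegral _))
        (minpoly.monic (Algebra.IsIntegral.isIntegral _))
        ((minpoly.irreducible (Algebra.IsIntegral.isIntegral _)).associated_of_dvd
          (minpoly.irreducible (Algebra.IsIntegral.isIntegral _)) hdvd)))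
    · rw [← hev, minpoly.aeval]; rfl
  rw [h, natDegree_prod _ _ fun i _ => minpoly.ne_zero (Algebra.IsIntegral.isIntegral _)]

theorem isSeparable_pi {L : Type*} [Field L] [Algebra k L] [FiniteDimensional k L] [Algebra.IsSeparable k L]
    (n : ℕ) : Algebra.IsSeparable k (Fin n → L) := by
  classical
  refine ⟨fun y => ?_⟩
  let s := Finset.univ.image fun i => minpoly k (y i)
  have hs : ∀ p ∈ s, ∃ a : L, minpoly k a = p := fun p hp => by
    obtain ⟨i, -, rfl⟩ := Finset.mem_image.mp hp; exact ⟨_, rfl⟩
  have hsep : (∏ p ∈ s, p).Separable := by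
    refine separable_prod' (fun p hp q hq hpq => ?_) fun p hp => ?_
    · obtain ⟨a, rfl⟩ := hs p hp
      obtain ⟨b, rfl⟩ := hs q hq
      refine ((minpoly.irreducible (Algebra.IsIntegral.isIntegral _)).coprime_iff_not_dvd).mpr fun hdvd => ?_
      exact hpq (eq_of_monic_of_associated (minpoly.monic (Algebra.IsIntegral.isIntegral _))
        (minpoly.monic (Algebra.IsIntegral.isIntegral _))
        ((minpoly.irreducible (Algebra.IsIntegral.isIntegral _)).associated_of_dvd
          (minpoly.irreducible (Algebra.IsIntegral.isIntegral _)) hdvd))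
    · obtain ⟨a, rfl⟩ := hs p hp
      exact Algebra.IsSeparable.isSeparable k a
  refine hsep.of_dvd (minpoly.dvd k y (funext fun i => ?_))
  rw [show (aeval y (∏ p ∈ s, p) : Fin n → L) i = aeval (y i) (∏ p ∈ s, p) from
    (aeval_algHom_apply (Pi.evalAlgHom k (fun _ : Fin n => L) i) y _).symm]
  change aeval (y i) (∏ p ∈ s, p) = 0
  rw [map_prod]
  exact Finset.prod_eq_zero (Finset.mem_image_of_mem _ (Finset.mem_univ i)) (minpoly.aeval k _)

theorem infinite_translates [Infinite k] {L : Type*} [Field L] [Algebra k L] [FiniteDimensional k L] (θ : L) :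
    (Set.range fun c : k => minpoly k (θ + algebraMap k L c)).Infinite := by
  intro hfin
  obtain ⟨P, hP⟩ := hfin.exists_infinite_fiber (f := Set.rangeFactorization fun c : k => minpoly k (θ + algebraMap k L c))
  let g : k → L := fun c => θ + algebraMap k L c
  have hg : Function.Injective g := fun a b h => (algebraMap k L).injective (add_left_cancel h)
  have hne : P.1 ≠ 0 := by
    obtain ⟨c, hc⟩ := P.2
    rw [← hc]
    exact minpoly.ne_zero (Algebra.IsIntegral.isIntegral _)
  have : (g '' (Set.rangeFactorization (fun c : k => minpoly k (θ + algebraMap k L c)) ⁻¹' {P})).Finite := by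
    refine Set.Finite.subset (P.1.rootSet_finite L) ?_
    rintro _ ⟨c, hc, rfl⟩
    rw [Polynomial.mem_rootSet_of_ne hne, ← congr_arg Subtype.val hc]
    exact minpoly.aeval k _
  exact (Set.infinite_coe_iff.mp hP) (this.of_finite_image hg.injOn)

/-- A central simple algebra of degree `r` contains an element generating an étale subalgebra of rank `r`. -/
theorem exists_regular [Algebra.IsCentral k A] [IsSimpleRing A] (r : ℕ) (hA : Module.finrank k A = r ^ 2) :
    ∃ x : A, Algebra.IsSeparable k (Algebra.adjoin k ({x} : Set A)) ∧
      Module.finrank k (Algebra.adjoin k ({x} : Set A)) = r := by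
  classical
  obtain ⟨n, hn, D, _, _, _, _, ⟨e⟩⟩ := Groth.Agent.Lib.CSA.Basic.exists_algEquiv_matrix_central_divisionRing k A
  rcases finite_or_infinite k with hk | hk
  · have : Finite D := Module.finite_of_finite k
    have hDk : Function.Bijective (Algebra.ofId k D) := ⟨(algebraMap k D).injective, fun d => by
      have : d ∈ Subalgebra.center k D :=
        Subalgebra.mem_center_iff.mpr fun y => (letI := littleWedderburn D; mul_comm y d)
      rw [Algebra.IsCentral.center_eq_bot] at this
      exact Algebra.mem_bot.mp this⟩
    let e' : A ≃ₐ[k] Matrix (Fin n) (Fin n) k := e.trans (AlgEquiv.mapMatrix (AlgEquiv.ofBijective _ hDk).symm)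
    obtain rfl : r = n := by
      have h := e'.toLinearEquiv.finrank_eq
      rw [hA, Module.finrank_matrix] at h
      simp at h
      exact Nat.pow_left_injective two_ne_zero (by simpa [sq] using h)
    let p := ringChar k
    have : Fact p.Prime := ⟨CharP.char_is_prime k p⟩
    let L := FiniteField.Extension k p r
    have hL : Module.finrank k L = r := FiniteField.finrank_extension k p r
    obtain ⟨θ, hθ⟩ := Field.exists_primitive_element k L
    let b : Module.Basis (Fin r) k L := (Module.finBasis k L).reindex (finCongr hL)
    let u : L →ₐ[k] A := e'.symm.toAlgHom.comp (Algebra.leftMulMatrix b)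
    have hu : Function.Injective u := e'.symm.injective.comp (Algebra.leftMulMatrix_injective b)
    obtain ⟨h1, h2⟩ := regular_of_hom u hu θ
    refine ⟨u θ, h1, h2.trans ?_⟩
    rw [← IntermediateField.adjoin.finrank (Algebra.IsIntegral.isIntegral θ), hθ, IntermediateField.finrank_top', hL]
  · obtain ⟨L, hcomm, hsep, hcent⟩ := Groth.Agent.Lib.CSA.Division.exists_separable_maximal (k := k) (D := D)
    let := Groth.Agent.Lib.CSA.Division.fieldOfComm L hcomm
    have hLr : r = n * Module.finrank k L := by
      have h := e.toLinearEquiv.finrank_eq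
      rw [hA, Module.finrank_matrix, Groth.Agent.Lib.CSA.Division.finrank_eq_sq L hcomm hcent] at h
      simp at h
      exact Nat.pow_left_injective two_ne_zero (by simp only [h]; ring)
    have : Algebra.IsSeparable k L := hsep
    obtain ⟨θ, hθ⟩ := Field.exists_primitive_element k L
    have hdeg : ∀ c : k, (minpoly k (θ + algebraMap k L c)).natDegree = Module.finrank k L := fun c => by
      rw [← IntermediateField.adjoin.finrank (Algebra.IsIntegral.isIntegral _)]
      have : IntermediateField.adjoin k {θ + algebraMap k L c} = ⊤ := by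
        rw [eq_top_iff, ← hθ, IntermediateField.adjoin_simple_le_iff]
        have h := sub_mem (IntermediateField.mem_adjoin_simple_self k (θ + algebraMap k L c))
          (IntermediateField.algebraMap_mem (IntermediateField.adjoin k {θ + algebraMap k L c}) c)
        simpa using h
      rw [this, IntermediateField.finrank_top']
    let emb := (infinite_translates (k := k) θ).natEmbedding _
    choose c hc using fun i : Fin n => (emb i).2
    let z : Fin n → L := fun i => θ + algebraMap k L (c i)
    have hz : Function.Injective fun i => minpoly k (z i) := fun i j h =>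
      Fin.ext (emb.injective (Subtype.ext ((hc i).symm.trans (h.trans (hc j)))))
    let u : (Fin n → L) →ₐ[k] A := e.symm.toAlgHom.comp
      ((Matrix.diagonalAlgHom k).comp (AlgHom.compLeft L.val (Fin n)))
    have hu : Function.Injective u := fun a b h => by
      have h2 := Matrix.diagonal_injective (e.symm.injective h)
      exact funext fun i => Subtype.ext (congr_fun h2 i)
    have := isSeparable_pi (k := k) (L := L) n
    obtain ⟨h1, h2⟩ := regular_of_hom u hu z
    refine ⟨u z, h1, h2.trans ?_⟩
    rw [minpoly_pi z hz, hLr, Finset.sum_congr rfl fun i _ => hdeg (c i)]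
    simp

end Groth.Agent.Lib.Azumaya.RegularExists
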