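import Groth.Agent.Lib.Azumaya.Regular
import Groth.Agent.Lib.Azumaya.RegularExists
import Groth.Agent.Lib.Azumaya.EtaleFree
import Groth.Agent.Lib.Azumaya.EtaleSub
import Groth.Agent.Lib.CSA.Splitting
import Mathlib.RingTheory.Localization.BaseChange
import Mathlib.RingTheory.Localization.Integer
import Mathlib.RingTheory.Support
import Mathlib.LinearAlgebra.Charpoly.BaseChange

/-!
# An Azumaya algebra splits over a finite étale cover of a neighbourhood of each prime
-/

open scoped TensorProduct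

namespace Groth.Agent.Lib.Azumaya.SplitNear

universe u

variable {R : Type u} [CommRing R] {A : Type u} [Ring A] [Algebra R A]

section Fibre

variable (p : Ideal R) [p.IsPrime]

/-- Every element of the fibre is, up to a unit of the residue field, an element of `A`. -/
theorem exists_lift (z : p.ResidueField ⊗[R] A) :
    ∃ (c : p.ResidueField) (a : A), c ≠ 0 ∧ c • z = (1 : p.ResidueField) ⊗ₜ[R] a := by
  suffices h : ∃ s : R, s ∉ p ∧ ∃ a : A, algebraMap R p.ResidueField s • z = (1 : p.ResidueField) ⊗ₜ[R] a by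
    obtain ⟨s, hs, a, ha⟩ := h
    exact ⟨_, a, fun h0 => hs (Ideal.algebraMap_residueField_eq_zero.mp h0), ha⟩
  induction z using TensorProduct.induction_on with
  | zero => exact ⟨1, fun h => Ideal.IsPrime.ne_top' ((Ideal.eq_top_iff_one _).mpr h), 0, by simp⟩
  | tmul x y =>
    obtain ⟨x', rfl⟩ := IsLocalRing.residue_surjective x
    obtain ⟨⟨b, s⟩, hbs⟩ := IsLocalization.surj p.primeCompl x'
    refine ⟨s.1, s.2, b • y, ?_⟩
    have h := congr_arg (IsLocalRing.residue (Localization.AtPrime p)) hbs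
    rw [map_mul] at h
    have h' : algebraMap R p.ResidueField s.1 * IsLocalRing.residue _ x' = algebraMap R p.ResidueField b := by
      rw [mul_comm]; exact h
    rw [TensorProduct.smul_tmul', smul_eq_mul, h', TensorProduct.tmul_smul, TensorProduct.smul_tmul',
      Algebra.smul_def, mul_one]
  | add y z hy hz =>
    obtain ⟨s, hs, a, ha⟩ := hy
    obtain ⟨t, ht, b, hb⟩ := hz
    refine ⟨s * t, fun h => (Ideal.IsPrime.mem_or_mem ‹_› h).elim hs ht, t • a + s • b, ?_⟩
    rw [smul_add, map_mul, TensorProduct.tmul_add, TensorProduct.tmul_smul, TensorProduct.tmul_smul,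
      ← algebraMap_smul p.ResidueField t, ← algebraMap_smul p.ResidueField s, mul_comm, mul_smul, ha,
      mul_comm, mul_smul, hb]

theorem adjoin_smul {k : Type*} [Field k] {B : Type*} [Ring B] [Algebra k B] {c : k} (hc : c ≠ 0) (x : B) :
    Algebra.adjoin k ({c • x} : Set B) = Algebra.adjoin k {x} := by
  refine le_antisymm (Algebra.adjoin_le fun y hy => ?_) (Algebra.adjoin_le fun y hy => ?_)
  · rw [Set.mem_singleton_iff.mp hy]
    exact Subalgebra.smul_mem _ (Algebra.self_mem_adjoin_singleton k x) c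
  · rw [Set.mem_singleton_iff.mp hy]
    have := Subalgebra.smul_mem _ (Algebra.self_mem_adjoin_singleton k (c • x)) c⁻¹
    rwa [smul_smul, inv_mul_cancel₀ hc, one_smul] at this

end Fibre

theorem pow_mem_span_of_regular [IsAzumaya R A] {R' : Type u} [CommRing R'] [IsLocalRing R'] [Algebra R R']
    (r : ℕ) (hA : Module.finrank (IsLocalRing.ResidueField R') (IsLocalRing.ResidueField R' ⊗[R] A) = r ^ 2) (ξ : A)
    (hsep : Algebra.IsSeparable (IsLocalRing.ResidueField R') (Algebra.adjoin (IsLocalRing.ResidueField R')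
      ({(1 : IsLocalRing.ResidueField R') ⊗ₜ[R] ξ} : Set (IsLocalRing.ResidueField R' ⊗[R] A))))
    (hrk : Module.finrank (IsLocalRing.ResidueField R') (Algebra.adjoin (IsLocalRing.ResidueField R')
      ({(1 : IsLocalRing.ResidueField R') ⊗ₜ[R] ξ} : Set (IsLocalRing.ResidueField R' ⊗[R] A))) = r) :
    ((1 : R') ⊗ₜ[R] ξ) ^ r ∈ Submodule.span R' (Set.range fun i : Fin r => ((1 : R') ⊗ₜ[R] ξ) ^ (i : ℕ)) := by
  let κ := IsLocalRing.ResidueField R'
  have := BaseChange.isAzumaya_baseChange (R := R) R' A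
  let e : κ ⊗[R'] (R' ⊗[R] A) ≃ₐ[κ] κ ⊗[R] A := Criterion.cancelBaseChange R R' κ A
  have he : e ((1 : κ) ⊗ₜ[R'] ((1 : R') ⊗ₜ[R] ξ)) = (1 : κ) ⊗ₜ[R] ξ := by
    apply e.symm.injective
    rw [AlgEquiv.symm_apply_apply]
    exact (TensorProduct.AlgebraTensorModule.cancelBaseChange_symm_tmul (R := R) (A := R') (B := κ) (M := κ) (1 : κ) ξ).symm
  have hmap : (Algebra.adjoin κ ({(1 : κ) ⊗ₜ[R'] ((1 : R') ⊗ₜ[R] ξ)} : Set (κ ⊗[R'] (R' ⊗[R] A)))).map e.toAlgHom =
      Algebra.adjoin κ ({(1 : κ) ⊗ₜ[R] ξ} : Set (κ ⊗[R] A)) := by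
    rw [AlgHom.map_adjoin, Set.image_singleton]
    exact congr_arg (fun z => Algebra.adjoin κ ({z} : Set (κ ⊗[R] A))) he
  let e₂ := (Subalgebra.equivMapOfInjective (Algebra.adjoin κ ({(1 : κ) ⊗ₜ[R'] ((1 : R') ⊗ₜ[R] ξ)} : Set (κ ⊗[R'] (R' ⊗[R] A))))
    e.toAlgHom e.injective).trans (Subalgebra.equivOfEq _ _ hmap)
  have hA' : Module.finrank R' (R' ⊗[R] A) = r ^ 2 := by
    have : Module.Free R' (R' ⊗[R] A) := Module.free_of_flat_of_isLocalRing
    rw [← hA]
    exact (Module.finrank_baseChange (R := κ)).symm.trans e.toLinearEquiv.finrank_eq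
  exact (Regular.powers_basis (R := R') (A := R' ⊗[R] A) r hA' _
    ⟨fun y => by
      have := hsep.isSeparable' (e₂ y)
      unfold IsSeparable at this ⊢
      rw [← minpoly.algEquiv_eq e₂ y]
      exact this⟩ (e₂.toLinearEquiv.finrank_eq.trans hrk)).2 _ (by rw [← pow_succ', ← pow_succ])

/-- A regular element with an exact integral relation. -/
theorem exists_section [IsAzumaya R A] (p : Ideal R) [p.IsPrime] (r : ℕ)
    (hA : Module.finrank p.ResidueField (p.ResidueField ⊗[R] A) = r ^ 2) :
    ∃ (ξ : A) (c : Fin r → R), ξ ^ r = ∑ i, c i • ξ ^ (i : ℕ) ∧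
      Algebra.IsSeparable p.ResidueField (Algebra.adjoin p.ResidueField
        ({(1 : p.ResidueField) ⊗ₜ[R] ξ} : Set (p.ResidueField ⊗[R] A))) ∧
      Module.finrank p.ResidueField (Algebra.adjoin p.ResidueField
        ({(1 : p.ResidueField) ⊗ₜ[R] ξ} : Set (p.ResidueField ⊗[R] A))) = r := by
  classical
  let κ := p.ResidueField
  have hcs := Criterion.central_simple_baseChange A κ (R := R)
  have := hcs.1
  have := hcs.2
  obtain ⟨x, hsep, hrk⟩ := RegularExists.exists_regular (k := κ) (A := κ ⊗[R] A) r hA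
  obtain ⟨c₀, ξ, hc₀, hξ⟩ := exists_lift p x
  rw [← adjoin_smul hc₀ x, hξ] at hsep hrk
  let R' := Localization.AtPrime p
  let A' := R' ⊗[R] A
  have := BaseChange.isAzumaya_baseChange (R := R) R' A
  set ξ' : A' := (1 : R') ⊗ₜ[R] ξ with hξ'
  obtain ⟨d, hd⟩ := (Submodule.mem_span_range_iff_exists_fun R').mp
    (pow_mem_span_of_regular (R' := R') r hA ξ hsep hrk)
  obtain ⟨⟨b, hb⟩, hbd⟩ := IsLocalization.exist_integer_multiples p.primeCompl Finset.univ d
  choose d' hd' using fun i => hbd i (Finset.mem_univ i)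
  have hpow : ∀ i : ℕ, ξ' ^ i = (1 : R') ⊗ₜ[R] (ξ ^ i) := fun i => by
    rw [hξ', Algebra.TensorProduct.tmul_pow, one_pow]
  have heq : TensorProduct.mk R R' A 1 (b • ξ ^ r) = TensorProduct.mk R R' A 1 (∑ i, d' i • ξ ^ (i : ℕ)) := by
    simp only [TensorProduct.mk_apply, TensorProduct.tmul_sum, TensorProduct.tmul_smul]
    rw [← hpow r]
    rw [show ξ' ^ r = ∑ i, d i • ξ' ^ (i : ℕ) from hd.symm]
    simp only [← hpow, Finset.smul_sum]
    refine Finset.sum_congr rfl fun i _ => ?_
    rw [← algebraMap_smul R' b, ← algebraMap_smul R' (d' i), smul_smul, hd' i, Algebra.smul_def]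
  obtain ⟨⟨t, ht⟩, htt⟩ := (IsLocalizedModule.eq_iff_exists p.primeCompl (TensorProduct.mk R R' A 1)).mp heq
  replace htt : t • b • ξ ^ r = t • ∑ i, d' i • ξ ^ (i : ℕ) := htt
  set s := t * b
  have hs : s ∉ p := fun h => (Ideal.IsPrime.mem_or_mem ‹_› h).elim ht hb
  have hrel : s • ξ ^ r = ∑ i, (t * d' i) • ξ ^ (i : ℕ) := by
    simp only [s, mul_smul, htt, Finset.smul_sum]
  refine ⟨s • ξ, fun i => s ^ (r - 1 - (i : ℕ)) * (t * d' i), ?_, ?_, ?_⟩
  · rcases Nat.eq_zero_or_pos r with hr | hr
    · subst hr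
      simp at hrel ⊢
      have h1 : algebraMap R A s = 0 := by rwa [Algebra.algebraMap_eq_smul_one]
      have h2 : s = 0 := FaithfulSMul.algebraMap_injective R A (h1.trans (map_zero _).symm)
      exact absurd (h2 ▸ Ideal.zero_mem p) hs
    · obtain ⟨m, rfl⟩ : ∃ m, r = m + 1 := ⟨r - 1, by omega⟩
      rw [smul_pow, pow_succ s, mul_smul, hrel, Finset.smul_sum]
      refine Finset.sum_congr rfl fun i _ => ?_
      rw [smul_pow, smul_smul, smul_smul]
      congr 1
      have : s ^ m = s ^ (m + 1 - 1 - (i : ℕ)) * s ^ (i : ℕ) := by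
        rw [← pow_add]; congr 1; have := i.isLt; omega
      rw [this]; ring
  all_goals
    have hsm : (1 : κ) ⊗ₜ[R] (s • ξ) = algebraMap R κ s • ((1 : κ) ⊗ₜ[R] ξ) := by
      rw [algebraMap_smul, TensorProduct.tmul_smul]
    have hne : algebraMap R κ s ≠ 0 := fun h0 => hs (Ideal.algebraMap_residueField_eq_zero.mp h0)
    rw [hsm, adjoin_smul hne]
    assumption

open Polynomial in
theorem formallyUnramified_of_root {S : Type u} [CommRing S] {B : Type u} [CommRing B] [Algebra S B] (z : B) (P : S[X])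
    (hP : aeval z P = 0) (hu : IsUnit (aeval z (derivative P))) (hgen : ∀ x : B, ∃ q : S[X], aeval z q = x) :
    Algebra.FormallyUnramified S B := by
  refine ⟨subsingleton_of_forall_eq 0 fun w => ?_⟩
  have hD : KaehlerDifferential.D S B z = 0 := by
    have h0 := congr_arg (KaehlerDifferential.D S B) hP
    rw [Derivation.map_aeval, map_zero] at h0
    exact hu.smul_eq_zero.mp h0
  have hw : w ∈ Submodule.span B (Set.range (KaehlerDifferential.D S B)) := by
    rw [KaehlerDifferential.span_range_derivation]; trivial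
  induction hw using Submodule.span_induction with
  | mem w hw =>
    obtain ⟨x, rfl⟩ := hw
    obtain ⟨q, rfl⟩ := hgen x
    rw [Derivation.map_aeval, hD, smul_zero]
  | zero => rfl
  | add y z _ _ hy hz => rw [hy, hz, add_zero]
  | smul a y _ hy => rw [hy, smul_zero]

open Polynomial in
theorem aeval_one_tmul_root (S : Type u) [CommRing S] [Algebra R S] {f : R[X]} (q : R[X]) :
    aeval ((1 : S) ⊗ₜ[R] AdjoinRoot.root f) (q.map (algebraMap R S)) = (1 : S) ⊗ₜ[R] AdjoinRoot.mk f q := by
  rw [Polynomial.aeval_map_algebraMap, show (1 : S) ⊗ₜ[R] AdjoinRoot.root f =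
    (Algebra.TensorProduct.includeRight : AdjoinRoot f →ₐ[R] S ⊗[R] AdjoinRoot f) (AdjoinRoot.root f) from rfl,
    Polynomial.aeval_algHom_apply, AdjoinRoot.aeval_eq]
  rfl

open Polynomial in
theorem generated_by_root (S : Type u) [CommRing S] [Algebra R S] {f : R[X]} (x : S ⊗[R] AdjoinRoot f) :
    ∃ q : S[X], aeval ((1 : S) ⊗ₜ[R] AdjoinRoot.root f) q = x := by
  induction x using TensorProduct.induction_on with
  | zero => exact ⟨0, map_zero _⟩
  | add y z hy hz =>
    obtain ⟨q, rfl⟩ := hy
    obtain ⟨q', rfl⟩ := hz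
    exact ⟨q + q', map_add _ _ _⟩
  | tmul s e =>
    obtain ⟨q, rfl⟩ := AdjoinRoot.mk_surjective e
    refine ⟨s • q.map (algebraMap R S), ?_⟩
    rw [map_smul, aeval_one_tmul_root, TensorProduct.smul_tmul', smul_eq_mul, mul_one]

theorem exists_scaled_inverse {M : Type u} [AddCommGroup M] [Module R M] {ι : Type u} [Fintype ι]
    (b : Module.Basis ι R M) (h : M →ₗ[R] M) : ∃ g : M →ₗ[R] M, g ∘ₗ h = LinearMap.det h • LinearMap.id := by
  classical
  refine ⟨Matrix.toLin b b (LinearMap.toMatrix b b h).adjugate, (LinearMap.toMatrix b b).injective ?_⟩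
  rw [LinearMap.toMatrix_comp b b b, LinearMap.toMatrix_toLin, Matrix.adjugate_mul, LinearMap.det_toMatrix,
    map_smul, LinearMap.toMatrix_id]

set_option maxHeartbeats 800000 in
/-- The splitting over a ring in which the scaling factors are units. -/
theorem algEquiv_matrix_of_scaled_inverse [IsAzumaya R A] {E : Type u} [CommRing E] [Algebra R E]
    [Module.Finite R E] [Module.Free R E] {r : ℕ} (hr : 0 < r) (hEfr : Module.finrank R E = r)
    (u : E →ₐ[R] A) (a : Fin r → A) (Φ : (Fin r → E) →ₗ[R] A) (hΦ : ∀ v, Φ v = ∑ j, a j * u (v j))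
    (s : A →ₗ[R] (Fin r → E)) (g : (Fin r → E) →ₗ[R] (Fin r → E)) {t t' : R}
    (hΦs : Φ ∘ₗ s = t • LinearMap.id) (hg : g ∘ₗ (s ∘ₗ Φ) = t' • LinearMap.id)
    {S : Type u} [CommRing S] [Algebra R S] [Nontrivial S]
    (ht : IsUnit (algebraMap R S t)) (ht' : IsUnit (algebraMap R S t')) :
    Nonempty (((S ⊗[R] E) ⊗[R] A) ≃ₐ[S ⊗[R] E] Matrix (Fin r) (Fin r) (S ⊗[R] E)) := by
  classical
  have : Nontrivial R := (algebraMap R S).domain_nontrivial
  let R' := S ⊗[R] E
  have : Nontrivial R' := Module.nontrivial_of_finrank_pos (R := S) (by rw [Module.finrank_baseChange, hEfr]; omega)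
  let A' := S ⊗[R] A
  let uS := Algebra.TensorProduct.map (AlgHom.id S S) u
  let ρS : R' →+* A'ᵐᵒᵖ := uS.toRingHom.toOpposite fun a b => by
    exact (map_mul uS a b).symm.trans ((congr_arg uS (mul_comm a b)).trans (map_mul uS b a))
  letI : Module R' A' := Module.compHom _ ρS
  have hmod : ∀ (e : R') (y : A'), e • y = y * uS e := fun _ _ => rfl
  let Φ' : (Fin r → R') →ₗ[R'] A' := Fintype.linearCombination R' fun j => (1 : S) ⊗ₜ[R] a j
  have hΦ' : ∀ v : S ⊗[R] (Fin r → E), Φ.baseChange S v =
      Φ' (TensorProduct.piRight R S S (fun _ : Fin r => E) v) := fun v => by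
    induction v using TensorProduct.induction_on with
    | zero => simp
    | add y y' hy hy' => simp only [map_add, hy, hy']
    | tmul c e =>
      simp only [LinearMap.baseChange_tmul, hΦ, TensorProduct.tmul_sum, Φ', Fintype.linearCombination_apply, hmod]
      refine Finset.sum_congr rfl fun j _ => ?_
      simp [uS]
      exact ((Algebra.TensorProduct.tmul_mul_tmul (R := R) (1 : S) c (a j) (u (e j))).trans (by rw [one_mul])).symm
  have hbijS : Function.Bijective (Φ.baseChange S) := by
    constructor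
    · intro y y' hyy
      have h := congr_arg (g.baseChange S ∘ₗ s.baseChange S) hyy
      rw [← LinearMap.comp_apply, ← LinearMap.comp_apply, LinearMap.comp_assoc, ← LinearMap.baseChange_comp,
        ← LinearMap.baseChange_comp, hg, LinearMap.baseChange_smul, LinearMap.baseChange_id,
        LinearMap.smul_apply, LinearMap.smul_apply] at h
      rw [← algebraMap_smul S t', ← algebraMap_smul S t'] at h
      exact (ht').smul_left_cancel.mp h
    · intro y
      obtain ⟨v, hv⟩ := ht.exists_left_inv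
      refine ⟨v • s.baseChange S y, ?_⟩
      rw [map_smul, ← LinearMap.comp_apply, ← LinearMap.baseChange_comp, hΦs, LinearMap.baseChange_smul,
        LinearMap.baseChange_id, LinearMap.smul_apply, ← algebraMap_smul S t, LinearMap.id_apply, smul_smul,
        hv, one_smul]
  have hbij' : Function.Bijective Φ' := by
    have h : ⇑(Φ.baseChange S) = Φ' ∘ (TensorProduct.piRight R S S (fun _ : Fin r => E)) := funext hΦ'
    rw [h] at hbijS
    exact (Function.Bijective.of_comp_iff _ (LinearEquiv.bijective _)).mp hbijS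
  let bE : Module.Basis (Fin r) R' A' := Module.Basis.ofEquivFun (LinearEquiv.ofBijective Φ' hbij').symm
  have : IsScalarTower R R' A' := IsScalarTower.of_algebraMap_smul fun c y => by
    rw [hmod, IsScalarTower.algebraMap_apply R S R', uS.commutes, ← IsScalarTower.algebraMap_apply,
      ← Algebra.commutes, Algebra.smul_def]
  let gA : A →ₐ[R] Module.End R' A' :=
    { toFun := fun a =>
        { toFun := fun y => ((1 : S) ⊗ₜ[R] a) * y
          map_add' := mul_add _
          map_smul' := fun e y => by rw [RingHom.id_apply, hmod, hmod]; exact (mul_assoc _ _ _).symm }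
      map_one' := LinearMap.ext fun y => one_mul y
      map_mul' := fun a b => LinearMap.ext fun y => by
        change ((1 : S) ⊗ₜ[R] (a * b)) * y = ((1 : S) ⊗ₜ[R] a) * (((1 : S) ⊗ₜ[R] b) * y)
        rw [← mul_assoc, Algebra.TensorProduct.tmul_mul_tmul, one_mul]
      map_zero' := LinearMap.ext fun y => by
        change ((1 : S) ⊗ₜ[R] (0 : A)) * y = 0
        rw [TensorProduct.tmul_zero, zero_mul]
      map_add' := fun a b => LinearMap.ext fun y => by
        change ((1 : S) ⊗ₜ[R] (a + b)) * y = _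
        rw [TensorProduct.tmul_add, add_mul]
        rfl
      commutes' := fun c => LinearMap.ext fun y => by
        change ((1 : S) ⊗ₜ[R] algebraMap R A c) * y = _
        rw [Module.algebraMap_end_apply, Algebra.algebraMap_eq_smul_one, TensorProduct.tmul_smul,
          ← Algebra.TensorProduct.one_def, smul_mul_assoc, one_mul] }
  let φ : R' ⊗[R] A →ₐ[R'] Matrix (Fin r) (Fin r) R' :=
    (algEquivMatrix bE).toAlgHom.comp (Algebra.TensorProduct.lift (Algebra.ofId R' (Module.End R' A')) gA fun e y =>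
      Algebra.commute_algebraMap_left e (gA y))
  refine ⟨AlgEquiv.ofBijective φ (Criterion.bijective_of_residueField φ.toLinearMap fun M _ => ?_)⟩
  let κ' := M.ResidueField
  let ψ := Algebra.TensorProduct.map (AlgHom.id κ' κ') φ
  have hψ : ⇑(φ.toLinearMap.lTensor κ') = ψ := funext fun v => by
    induction v using TensorProduct.induction_on with
    | zero => simp
    | tmul a b => rfl
    | add a b ha hb => rw [map_add, map_add, ha, hb]
  rw [hψ]
  have hcs' := Criterion.central_simple_baseChange A κ' (R := R)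
  have := hcs'.2
  let ec := Criterion.cancelBaseChange R R' κ' A
  have : IsSimpleRing (κ' ⊗[R'] (R' ⊗[R] A)) := IsSimpleRing.of_ringEquiv ec.symm.toRingEquiv inferInstance
  have : Nonempty (Fin r) := ⟨⟨0, hr⟩⟩
  have : FiniteDimensional κ' (κ' ⊗[R'] (R' ⊗[R] A)) := inferInstance
  refine Groth.Agent.Lib.CSA.Splitting.bijective_of_simple ψ ?_
  have htgt : Module.finrank κ' (κ' ⊗[R'] Matrix (Fin r) (Fin r) R') = r * r := by
    rw [Module.finrank_baseChange, Module.finrank_matrix, Fintype.card_fin, Module.finrank_self, mul_one]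
  rw [ec.toLinearEquiv.finrank_eq, htgt]
  let es := Criterion.cancelBaseChange R S κ' A
  let eΦ : S ⊗[R] (Fin r → E) ≃ₗ[S] A' := LinearEquiv.ofBijective (Φ.baseChange S) hbijS
  have : Module.Free S A' := Module.Free.of_equiv eΦ
  rw [← es.toLinearEquiv.finrank_eq, Module.finrank_baseChange, ← eΦ.finrank_eq, Module.finrank_baseChange,
    Module.finrank_pi_fintype]
  simp [hEfr]

set_option maxHeartbeats 800000 in
open Polynomial in
/-- Local splitting by a finite étale cover. -/
theorem exists_split_near [IsAzumaya R A] (p : Ideal R) [p.IsPrime] :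
    ∃ f : R, f ∉ p ∧ ∃ (R' : Type u) (_ : CommRing R') (_ : Algebra R R') (_ : Algebra (Localization.Away f) R')
      (_ : IsScalarTower R (Localization.Away f) R'), Module.Finite (Localization.Away f) R' ∧
      Algebra.Etale (Localization.Away f) R' ∧ Module.FaithfullyFlat (Localization.Away f) R' ∧
      ∃ r : ℕ, 1 ≤ r ∧ Nonempty ((R' ⊗[R] A) ≃ₐ[R'] Matrix (Fin r) (Fin r) R') := by
  classical
  let κ := p.ResidueField
  have hcs := Criterion.central_simple_baseChange A κ (R := R)
  have := hcs.1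
  have := hcs.2
  obtain ⟨r, hr, hA⟩ := Groth.Agent.Lib.CSA.Basic.exists_finrank_eq_sq κ (κ ⊗[R] A)
  obtain ⟨ξ, c, hrel, hsep, hrk⟩ := exists_section p r hA
  -- the étale algebra
  let P : R[X] := X ^ r - ∑ i : Fin r, Polynomial.C (c i) * X ^ (i : ℕ)
  have hdeg : (∑ i : Fin r, Polynomial.C (c i) * X ^ (i : ℕ)).degree < (r : WithBot ℕ) := Polynomial.degree_sum_fin_lt c
  have hP : P.Monic := Polynomial.monic_X_pow_sub hdeg
  have : Nontrivial R := ⟨0, 1, fun h => Ideal.IsPrime.ne_top' (I := p) ((Ideal.eq_top_iff_one p).mpr (h ▸ p.zero_mem))⟩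
  have hPdeg : P.natDegree = r := Polynomial.natDegree_eq_of_degree_eq_some (by
    rw [Polynomial.degree_sub_eq_left_of_degree_lt (by rwa [Polynomial.degree_X_pow]), Polynomial.degree_X_pow])
  have hPξ : aeval ξ P = 0 := by
    simp [P, hrel, Algebra.smul_def]
  let pb := AdjoinRoot.powerBasis' hP
  let E := AdjoinRoot P
  have : Module.Free R E := Module.Free.of_basis pb.basis
  have : Module.Finite R E := Module.Finite.of_basis pb.basis
  have hdim : pb.dim = r := by rw [AdjoinRoot.powerBasis'_dim, hPdeg]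
  have hEfr : Module.finrank R E = r := by
    rw [Module.finrank_eq_card_basis pb.basis, Fintype.card_fin, hdim]
  let u : E →ₐ[R] A := Ideal.Quotient.liftₐ _ (aeval ξ) fun q hq => by
    obtain ⟨q', rfl⟩ := Ideal.mem_span_singleton.mp hq
    rw [map_mul, hPξ, zero_mul]
  have hugen : u pb.gen = ξ := Polynomial.aeval_X ξ
  -- the fibre of `E`
  set x := (1 : κ) ⊗ₜ[R] ξ with hx
  have hPx : aeval x (P.map (algebraMap R κ)) = 0 := by
    rw [Polynomial.aeval_map_algebraMap, hx,
      show (1 : κ) ⊗ₜ[R] ξ = (Algebra.TensorProduct.includeRight : A →ₐ[R] κ ⊗[R] A) ξ from rfl,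
      Polynomial.aeval_algHom_apply, hPξ, map_zero]
  have hmin : P.map (algebraMap R κ) = minpoly κ x := by
    refine Polynomial.eq_of_monic_of_dvd_of_natDegree_le (minpoly.monic (Algebra.IsIntegral.isIntegral x))
      (hP.map _) (minpoly.dvd κ x hPx) ?_
    rw [hP.natDegree_map, hPdeg]
    exact hrk.ge.trans (Regular.finrank_adjoin_eq_natDegree x).le
  have hsepP : (P.map (algebraMap R κ)).Separable := by
    have : Algebra.IsSeparable κ (Algebra.adjoin κ ({x} : Set (κ ⊗[R] A))) := hsep
    have h1 : IsSeparable κ (⟨x, Algebra.self_mem_adjoin_singleton κ x⟩ : Algebra.adjoin κ ({x} : Set (κ ⊗[R] A))) :=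
      Algebra.IsSeparable.isSeparable κ _
    unfold IsSeparable at h1
    rw [hmin]
    rwa [← minpoly.algHom_eq (Algebra.adjoin κ ({x} : Set (κ ⊗[R] A))).val Subtype.val_injective] at h1
  set z := AdjoinRoot.root P with hz
  let zκ : κ ⊗[R] E := (1 : κ) ⊗ₜ[R] z
  have hzP : ∀ (S : Type u) [CommRing S] [Algebra R S],
      aeval ((1 : S) ⊗ₜ[R] z) (P.map (algebraMap R S)) = 0 ∧
      aeval ((1 : S) ⊗ₜ[R] z) (derivative (P.map (algebraMap R S))) =
        (1 : S) ⊗ₜ[R] AdjoinRoot.mk P (derivative P) := fun S _ _ =>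
    ⟨by rw [hz, aeval_one_tmul_root, AdjoinRoot.mk_self, TensorProduct.tmul_zero],
      by rw [hz, Polynomial.derivative_map, aeval_one_tmul_root]⟩
  have huκ' : IsUnit ((1 : κ) ⊗ₜ[R] AdjoinRoot.mk P (derivative P)) := by
    obtain ⟨a, b, hab⟩ := hsepP
    have h := congr_arg (aeval zκ) hab
    rw [map_add, map_mul, map_mul, (hzP κ).1, (hzP κ).2, mul_zero, zero_add, map_one] at h
    exact IsUnit.of_mul_eq_one_right _ h
  let d := LinearMap.det (LinearMap.mulLeft R (AdjoinRoot.mk P (derivative P)))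
  have hbc : ∀ (S : Type u) [CommRing S] [Algebra R S],
      (LinearMap.mulLeft R (AdjoinRoot.mk P (derivative P))).baseChange S =
        LinearMap.mulLeft S ((1 : S) ⊗ₜ[R] AdjoinRoot.mk P (derivative P)) := fun S _ _ =>
    TensorProduct.AlgebraTensorModule.ext fun a e => by simp
  have hd : d ∉ p := by
    intro hdp
    have h1 : LinearMap.det ((LinearMap.mulLeft R (AdjoinRoot.mk P (derivative P))).baseChange κ) = 0 := by
      rw [LinearMap.det_baseChange]; exact Ideal.algebraMap_residueField_eq_zero.mpr hdp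
    rw [hbc] at h1
    have : IsUnit (LinearMap.mulLeft κ ((1 : κ) ⊗ₜ[R] AdjoinRoot.mk P (derivative P))) :=
      huκ'.map (Algebra.lmul κ (κ ⊗[R] E))
    exact not_isUnit_zero (h1 ▸ this.map LinearMap.det)
  -- the fibre of `A` is free over the fibre of `E`
  have : Algebra.FormallyUnramified κ (κ ⊗[R] E) := formallyUnramified_of_root zκ _ (hzP κ).1
    ((hzP κ).2 ▸ huκ') (generated_by_root κ)
  let uκ := Algebra.TensorProduct.map (AlgHom.id κ κ) u
  have hli := (Regular.span_pow_of_finrank x hrk).1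
  have huκinj : Function.Injective uκ := by
    have hli' : LinearIndependent κ fun i : Fin pb.dim => x ^ (i : ℕ) :=
      (hli.comp (finCongr hdim) (finCongr hdim).injective :)
    let bk := pb.basis.baseChange κ
    have himg : ∀ i, uκ (bk i) = x ^ (i : ℕ) := fun i => by
      simp only [bk, Module.Basis.baseChange_apply, pb.basis_eq_pow, uκ, Algebra.TensorProduct.map_tmul,
        AlgHom.coe_id, id_eq, map_pow, hugen, hx, Algebra.TensorProduct.tmul_pow, one_pow]
    intro a b hab
    rw [← sub_eq_zero]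
    have h0 : uκ (a - b) = 0 := by rw [map_sub, hab, sub_self]
    rw [← bk.sum_repr (a - b), map_sum] at h0
    simp only [map_smul, himg] at h0
    have hc := Fintype.linearIndependent_iff.mp hli' _ h0
    rw [← bk.sum_repr (a - b)]
    exact Finset.sum_eq_zero fun i _ => by rw [hc i, zero_smul]
  let ρ : κ ⊗[R] E →+* (κ ⊗[R] A)ᵐᵒᵖ := uκ.toRingHom.toOpposite fun a b => by
    change uκ a * uκ b = uκ b * uκ a
    rw [← map_mul, ← map_mul, mul_comm]
  letI : Module (κ ⊗[R] E) (κ ⊗[R] A) := Module.compHom _ ρ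
  obtain ⟨hfree, hfin, hrkB⟩ := EtaleFree.free_of_etale uκ huκinj r hA (by rw [Module.finrank_baseChange, hEfr])
    (fun _ _ => rfl)
  have : Nontrivial (κ ⊗[R] E) := Module.nontrivial_of_finrank_pos (R := κ) (by rw [Module.finrank_baseChange, hEfr]; omega)
  let bb := (Module.finBasis (κ ⊗[R] E) (κ ⊗[R] A)).reindex (finCongr hrkB)
  choose w a hw ha using fun j => exists_lift p (bb j)
  -- the map `E^r → A`
  let Φ : (Fin r → E) →ₗ[R] A :=
    ∑ j, (LinearMap.mulLeft R (a j)).comp (u.toLinearMap.comp (LinearMap.proj j))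
  have hΦ : ∀ v, Φ v = ∑ j, a j * u (v j) := fun v => by simp [Φ]
  have hΦκ : Function.Surjective (Φ.lTensor κ) := by
    intro y
    have key : ∀ (j : Fin r) (β : κ ⊗[R] E), ((1 : κ) ⊗ₜ[R] a j) * uκ β ∈ LinearMap.range (Φ.lTensor κ) := by
      intro j β
      induction β using TensorProduct.induction_on with
      | zero => rw [map_zero, mul_zero]; exact Submodule.zero_mem _
      | add b b' hb hb' => rw [map_add, mul_add]; exact Submodule.add_mem _ hb hb'
      | tmul s e =>
        refine ⟨s ⊗ₜ[R] Pi.single j e, ?_⟩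
        rw [LinearMap.lTensor_tmul, hΦ, Finset.sum_eq_single j]
        · simp [uκ]
        · intro i _ hi; simp [Pi.single_eq_of_ne hi]
        · simp
    have hy : y = ∑ j, ((1 : κ) ⊗ₜ[R] a j) * uκ ((w j)⁻¹ • bb.repr y j) := by
      conv_lhs => rw [← bb.sum_repr y]
      refine Finset.sum_congr rfl fun j _ => ?_
      change bb j * uκ (bb.repr y j) = _
      rw [← ha j, map_smul, smul_mul_assoc, mul_smul_comm, smul_smul, mul_inv_cancel₀ (hw j), one_smul]
    rw [← LinearMap.mem_range, hy]
    exact Submodule.sum_mem _ fun j _ => key j _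
  have hdimeq : Module.finrank κ (κ ⊗[R] (Fin r → E)) = Module.finrank κ (κ ⊗[R] A) := by
    rw [Module.finrank_baseChange, Module.finrank_pi_fintype, hA]; simp [hEfr, sq]
  have hΦinj : Function.Injective (Φ.baseChange κ) :=
    (LinearMap.injective_iff_surjective_of_finrank_eq_finrank hdimeq).mpr (by rwa [LinearMap.baseChange_eq_ltensor])
  obtain ⟨t, ht, hts⟩ : ∃ t : R, t ∉ p ∧ ∀ y : A, t • y ∈ LinearMap.range Φ := by
    have hns : (⟨p, ‹_›⟩ : PrimeSpectrum R) ∉ Module.support R (A ⧸ LinearMap.range Φ) := by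
      rw [Module.mem_support_iff_nontrivial_residueField_tensorProduct]
      intro hnt
      refine not_subsingleton (κ ⊗[R] (A ⧸ LinearMap.range Φ)) ⟨fun a b => ?_⟩
      have hzero : ∀ y, y = (0 : κ ⊗[R] (A ⧸ LinearMap.range Φ)) := fun y => by
        obtain ⟨y, rfl⟩ := LinearMap.lTensor_surjective κ (Submodule.mkQ_surjective _) y
        obtain ⟨z, rfl⟩ := hΦκ y
        rw [← LinearMap.comp_apply, ← LinearMap.lTensor_comp, LinearMap.range_mkQ_comp, LinearMap.lTensor_zero,
          LinearMap.zero_apply]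
      rw [hzero a, hzero b]
    rw [Module.support_eq_zeroLocus, PrimeSpectrum.mem_zeroLocus, Set.not_subset] at hns
    obtain ⟨t, ht1, ht2⟩ := hns
    exact ⟨t, ht2, fun y => (Submodule.Quotient.mk_eq_zero _).mp
      (by rw [Submodule.Quotient.mk_smul]; exact Module.mem_annihilator.mp ht1 _)⟩
  obtain ⟨s, hs⟩ := Module.projective_lifting_property Φ.rangeRestrict
    (LinearMap.codRestrict (LinearMap.range Φ) (t • LinearMap.id : A →ₗ[R] A) fun y => by simpa using hts y)
    Φ.surjective_rangeRestrict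
  have hΦs : Φ ∘ₗ s = t • LinearMap.id := LinearMap.ext fun y => congr_arg Subtype.val (LinearMap.congr_fun hs y)
  let t' := LinearMap.det (s ∘ₗ Φ)
  have ht' : t' ∉ p := by
    intro hp0
    have h1 : LinearMap.det ((s ∘ₗ Φ).baseChange κ) = 0 := by
      rw [LinearMap.det_baseChange]; exact Ideal.algebraMap_residueField_eq_zero.mpr hp0
    have hsinj : Function.Injective (s.baseChange κ) := by
      intro a b hab
      have h := congr_arg (Φ.baseChange κ) hab
      rw [← LinearMap.comp_apply, ← LinearMap.comp_apply, ← LinearMap.baseChange_comp, hΦs,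
        LinearMap.baseChange_smul, LinearMap.baseChange_id, LinearMap.smul_apply, LinearMap.smul_apply] at h
      rw [← algebraMap_smul κ t, ← algebraMap_smul κ t] at h
      exact smul_right_injective _ (fun h0 => ht (Ideal.algebraMap_residueField_eq_zero.mp h0)) h
    have hu : IsUnit ((s ∘ₗ Φ).baseChange κ) := by
      rw [Module.End.isUnit_iff, LinearMap.baseChange_comp, LinearMap.coe_comp]
      have hinj := hsinj.comp hΦinj
      exact ⟨hinj, (LinearMap.injective_iff_surjective (f := s.baseChange κ ∘ₗ Φ.baseChange κ)).mp hinj⟩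
    exact not_isUnit_zero (h1 ▸ hu.map LinearMap.det)
  obtain ⟨g, hg⟩ := exists_scaled_inverse (Module.Free.chooseBasis R (Fin r → E)) (s ∘ₗ Φ)
  -- the neighbourhood
  refine ⟨d * t * t', fun h => ?_, ?_⟩
  · rcases Ideal.IsPrime.mem_or_mem ‹_› h with h | h
    · exact (Ideal.IsPrime.mem_or_mem ‹_› h).elim hd ht
    · exact ht' h
  let S := Localization.Away (d * t * t')
  have hunit : ∀ v : R, v ∣ d * t * t' → IsUnit (algebraMap R S v) := fun v hv =>
    isUnit_of_dvd_unit (map_dvd (algebraMap R S) hv)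
      (IsLocalization.map_units S (⟨d * t * t', Submonoid.mem_powers _⟩ : Submonoid.powers (d * t * t')))
  have : Nontrivial S := by
    refine (subsingleton_or_nontrivial S).resolve_left fun hsub => ?_
    obtain ⟨n, hn⟩ := (IsLocalization.subsingleton_iff (M := Submonoid.powers (d * t * t')) (S := S)).mp hsub
    simp only at hn
    have : d * t * t' ∈ p := Ideal.IsPrime.mem_of_pow_mem ‹_› n (hn ▸ p.zero_mem)
    rcases Ideal.IsPrime.mem_or_mem ‹_› this with h | h
    · exact (Ideal.IsPrime.mem_or_mem ‹_› h).elim hd ht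
    · exact ht' h
  let R' := S ⊗[R] E
  have : Nontrivial R' := Module.nontrivial_of_finrank_pos (R := S) (by rw [Module.finrank_baseChange, hEfr]; omega)
  have huS' : IsUnit ((1 : S) ⊗ₜ[R] AdjoinRoot.mk P (derivative P)) := by
    have h : IsUnit (LinearMap.det ((LinearMap.mulLeft R (AdjoinRoot.mk P (derivative P))).baseChange S)) := by
      rw [LinearMap.det_baseChange]
      exact hunit d ⟨t * t', by ring⟩
    rw [hbc, ← LinearMap.isUnit_iff_isUnit_det, Module.End.isUnit_iff] at h
    obtain ⟨e, he⟩ := h.2 1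
    exact IsUnit.of_mul_eq_one e he
  have : Algebra.FormallyUnramified S R' := formallyUnramified_of_root _ _ (hzP S).1 ((hzP S).2 ▸ huS')
    (generated_by_root S)
  have het : Algebra.Etale S R' := Algebra.Etale.of_formallyUnramified_of_flat
  refine ⟨R', inferInstance, inferInstance, inferInstance, inferInstance, inferInstance, het, inferInstance,
    r, hr, ?_⟩
  exact algEquiv_matrix_of_scaled_inverse hr hEfr u a Φ hΦ s g hΦs hg (hunit t ⟨d * t', by ring⟩) (hunit t' ⟨d * t, by ring⟩)

end Groth.Agent.Lib.Azumaya.SplitNear
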